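import Groth.Agent.DefT.K692.NilReg
import Groth.Agent.Fcompl.H548.ThickNoeth
import Groth.Agent.Models.CMSeq
import Mathlib.RingTheory.KrullDimension.Regular
import Mathlib.RingTheory.Jacobson.Ideal
import Mathlib.RingTheory.Artinian.Ring
import Mathlib.RingTheory.Henselian

/-!
# Algebras over a local Artinian ring whose closed fibre is a Noetherian local ring
-/

set_option autoImplicit false

universe u v w

open TensorProduct Function IsLocalRing
open scoped Pointwise

namespace K692.NilLocal

open K692.NilFlat K692.NilReg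

theorem isNilpotent_map {C : Type u} [CommRing C] {A : Type v} [CommRing A] [Algebra C A] {J : Ideal C}
    (hJ : IsNilpotent J) : IsNilpotent (J.map (algebraMap C A)) := by
  obtain ⟨n, hn⟩ := hJ
  refine ⟨n, ?_⟩
  rw [← Ideal.map_pow, hn]
  exact Ideal.map_bot

theorem le_nilradical_of_isNilpotent {A : Type v} [CommRing A] {I : Ideal A} (hI : IsNilpotent I) :
    I ≤ nilradical A := by
  obtain ⟨n, hn⟩ := hI
  intro x hx
  rw [mem_nilradical]
  refine ⟨n, ?_⟩
  have := Ideal.pow_mem_pow hx n
  rw [hn] at this
  exact this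

theorem isLocalRing_of_quotient {A : Type v} [CommRing A] (I : Ideal A) (hI : I ≤ nilradical A)
    [IsLocalRing (A ⧸ I)] : IsLocalRing A := by
  have hA : Nontrivial A := (Ideal.Quotient.mk I).domain_nontrivial
  have : IsLocalHom (Ideal.Quotient.mk I) := by
    refine isLocalHom_of_le_jacobson_bot I (hI.trans ?_)
    intro x hx
    exact Ideal.radical_le_jacobson hx
  exact (Ideal.Quotient.mk I).domain_isLocalRing

theorem ringKrullDim_quotient_of_le_nilradical {R : Type*} [CommRing R] (I : Ideal R)
    (hI : I ≤ nilradical R) : ringKrullDim (R ⧸ I) = ringKrullDim R := by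
  rw [ringKrullDim_quotient]
  have h : PrimeSpectrum.zeroLocus (I : Set R) = Set.univ := by
    rw [Set.eq_univ_iff_forall]
    exact fun P => hI.trans (nilradical_le_prime P.asIdeal)
  rw [h, ringKrullDim]
  exact Order.krullDim_eq_of_orderIso OrderIso.Set.univ

theorem isNilpotent_maximalIdeal (C : Type u) [CommRing C] [IsLocalRing C] [IsArtinianRing C] :
    IsNilpotent (maximalIdeal C) := by
  rw [← IsLocalRing.jacobson_eq_maximalIdeal ⊥ bot_ne_top]
  exact IsArtinianRing.isNilpotent_jacobson_bot

/-- regularity from a quotient -/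
theorem isRegular_of_map {A : Type v} [CommRing A] (K : Ideal A) (rs : List A)
    (h : RingTheory.Sequence.IsRegular (A ⧸ K) (rs.map (Ideal.Quotient.mk K)))
    (hw : RingTheory.Sequence.IsWeaklyRegular A rs) : RingTheory.Sequence.IsRegular A rs := by
  refine ⟨hw, fun htop => h.top_ne_smul ?_⟩
  have h1 : (⊤ : Ideal A) = Ideal.ofList rs := by simpa using htop
  have h2 : Ideal.ofList (rs.map (Ideal.Quotient.mk K)) = ⊤ := by
    rw [← Ideal.map_ofList, ← h1, Ideal.map_top]
  rw [h2]
  simp

end K692.NilLocal
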