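import Groth.Agent.DefT.K692.NilReg
import Groth.Agent.DefT.K692.NilLocal
import Groth.Agent.Divis.ExtendStalk
import Groth.Agent.Ega4C.SmoothRegular
import Groth.Agent.CalgA.RegBasic

/-!
# Regular pairs in ideals of codimension at least two of a smooth algebra
-/

set_option autoImplicit false

universe u v w

open TensorProduct Function IsLocalRing

namespace K692.CodimPair

open K692.NilFlat K692.NilReg Groth.Agent.Divis.DepthTwo Groth.Agent.Divis.ExtendStalk

theorem exists_regPair_of_isRegularLocalRing (R : Type u) [CommRing R] [IsRegularLocalRing R]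
    (h : 2 ≤ ringKrullDim R) :
    ∃ a ∈ maximalIdeal R, ∃ b ∈ maximalIdeal R, RegPair a b R := by
  have hd := (isRegularLocalRing_iff R).1 ‹_›
  obtain ⟨s, hs, hsp⟩ := (IsNoetherian.noetherian (maximalIdeal R)).exists_span_finset_card_eq_spanFinrank
  have hlist : Ideal.ofList s.toList = maximalIdeal R := by
    rw [← hsp, Ideal.ofList]
    congr 1
    ext x
    simp
  have h1 := Groth.Agent.CalgA.RegBasic.isRegular_of_ofList_eq (maximalIdeal R).spanFinrank R
    s.toList (by rw [Finset.length_toList, hs]) hd.symm hlist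
  have h2 : 2 ≤ s.toList.length := by
    rw [Finset.length_toList, hs]
    rw [← hd] at h
    exact_mod_cast h
  match hl : s.toList, h2 with
  | a :: b :: l, _ =>
    rw [hl] at h1 hlist
    refine ⟨a, ?_, b, ?_, RegPair.of_isWeaklyRegular h1.1⟩
    · rw [← hlist]
      exact Ideal.subset_span (by simp)
    · rw [← hlist]
      exact Ideal.subset_span (by simp)

/-- A smooth algebra over a field: an ideal all of whose primes have height at least two contains a
regular pair. -/
theorem exists_regPair_of_smooth (k : Type u) [Field k] (A : Type v) [CommRing A] [Algebra k A]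
    [Algebra.Smooth k A] (I : Ideal A)
    (h : ∀ p : Ideal A, p.IsPrime → I ≤ p → (2 : ℕ∞) ≤ p.height) :
    ∃ a ∈ I, ∃ b ∈ I, RegPair a b A := by
  have hfin : Algebra.FiniteType k A := inferInstance
  have hnoeth : IsNoetherianRing A := Algebra.FiniteType.isNoetherianRing k A
  refine exists_regPair I fun p hp hle => ?_
  have hreg : IsRegularLocalRing (Localization.AtPrime p) :=
    Groth.Agent.Ega4C.SmoothRegular.isRegularLocalRing_of_isSmoothAt k A p
  have hdim : 2 ≤ ringKrullDim (Localization.AtPrime p) := by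
    rw [IsLocalization.AtPrime.ringKrullDim_eq_height p]
    exact WithBot.coe_le_coe.2 (h p hp hle)
  exact exists_regPair_localizedModule p (A := Localization.AtPrime p) (N := Localization.AtPrime p)
    (Algebra.linearMap A (Localization.AtPrime p))
    (exists_regPair_of_isRegularLocalRing _ hdim)

section

variable {C : Type u} [CommRing C] [IsLocalRing C] {A : Type v} [CommRing A] [Algebra C A]

/-- Over a local ring with nilpotent maximal ideal: the regular pair on the closed fibre lifts. -/
theorem exists_regPair_lift (hnil : IsNilpotent (maximalIdeal C)) [Module.Flat C A] (I : Ideal A)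
    {a₀ b₀ : A ⧸ (maximalIdeal C).map (algebraMap C A)}
    (ha : a₀ ∈ I.map (Ideal.Quotient.mk ((maximalIdeal C).map (algebraMap C A))))
    (hb : b₀ ∈ I.map (Ideal.Quotient.mk ((maximalIdeal C).map (algebraMap C A))))
    (hab : RegPair a₀ b₀ (A ⧸ (maximalIdeal C).map (algebraMap C A))) :
    ∃ a ∈ I, ∃ b ∈ I, RegPair a b A ∧ ∀ J : Ideal C, ∀ x, a * x ∈ J.map (algebraMap C A) →
      x ∈ J.map (algebraMap C A) := by
  rw [Ideal.mem_map_iff_of_surjective _ Ideal.Quotient.mk_surjective] at ha hb
  obtain ⟨a, haI, rfl⟩ := ha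
  obtain ⟨b, hbI, rfl⟩ := hb
  have h1 := hab.isWeaklyRegular
  have h2 := isWeaklyRegular_and_flat_ring hnil [a, b] (by simpa using h1)
  have h3 : RingTheory.Sequence.IsWeaklyRegular (A ⧸ (maximalIdeal C).map (algebraMap C A))
      [Ideal.Quotient.mk ((maximalIdeal C).map (algebraMap C A)) a] := by
    rw [RingTheory.Sequence.isWeaklyRegular_cons_iff] at h1 ⊢
    exact ⟨h1.1, RingTheory.Sequence.IsWeaklyRegular.nil _ _⟩
  obtain ⟨h4, h5⟩ := isWeaklyRegular_and_flat_ring hnil [a] (by simpa using h3)
  have hreg : IsSMulRegular A a := ((RingTheory.Sequence.isWeaklyRegular_cons_iff _ _ _).1 h4).1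
  refine ⟨a, haI, b, hbI, RegPair.of_isWeaklyRegular h2.1, fun J x hx => ?_⟩
  have hof : Ideal.ofList [a] = Ideal.span {a} := by
    rw [Ideal.ofList_singleton]
  rw [hof] at h5
  have h6 := Groth.Agent.Divis.RelFlat.map_inf_le_of_flat J (Ideal.span {a}) h5
    ⟨hx, Ideal.mul_mem_right _ _ (Ideal.mem_span_singleton_self a)⟩
  rw [mul_comm, Ideal.mem_span_singleton_mul] at h6
  obtain ⟨z, hz, hzx⟩ := h6
  rwa [← hreg hzx]

/-- **Regular pairs in codimension two ideals of flat families with smooth closed fibre.** -/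
theorem exists_regPair_of_codim (hnil : IsNilpotent (maximalIdeal C)) [Module.Flat C A]
    [Algebra.Smooth (C ⧸ maximalIdeal C) (A ⧸ (maximalIdeal C).map (algebraMap C A))] (I : Ideal A)
    (h : ∀ p : Ideal (A ⧸ (maximalIdeal C).map (algebraMap C A)), p.IsPrime →
      I.map (Ideal.Quotient.mk ((maximalIdeal C).map (algebraMap C A))) ≤ p → (2 : ℕ∞) ≤ p.height) :
    ∃ a ∈ I, ∃ b ∈ I, RegPair a b A ∧ ∀ J : Ideal C, ∀ x, a * x ∈ J.map (algebraMap C A) →
      x ∈ J.map (algebraMap C A) := by
  let _ : Field (C ⧸ maximalIdeal C) := Ideal.Quotient.field _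
  obtain ⟨a, ha, b, hb, hab⟩ := exists_regPair_of_smooth (C ⧸ maximalIdeal C)
    (A ⧸ (maximalIdeal C).map (algebraMap C A)) _ h
  exact exists_regPair_lift hnil I ha hb hab

end

end K692.CodimPair
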