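import Groth.Agent.DefT.K692.NilLocal
import Mathlib.RingTheory.Ideal.Height
import Mathlib.RingTheory.Spectrum.Prime.RingHom

/-!
# Heights of primes and nilpotent kernels
-/

set_option autoImplicit false

universe u v w

open Function

namespace K692.NilHeight

variable {R : Type u} {S : Type v} [CommRing R] [CommRing S] (f : R →+* S)

/-- the order isomorphism of spectra of a surjection with nilpotent kernel -/
def orderIso (hf : Surjective f) (hker : RingHom.ker f ≤ nilradical R) :
    PrimeSpectrum S ≃o PrimeSpectrum R where
  toFun := PrimeSpectrum.comap f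
  invFun q := ⟨q.asIdeal.map f, Ideal.map_isPrime_of_surjective hf
    (hker.trans (nilradical_le_prime q.asIdeal))⟩
  left_inv p := by
    ext1
    exact Ideal.map_comap_of_surjective f hf p.asIdeal
  right_inv q := by
    ext1
    change (q.asIdeal.map f).comap f = q.asIdeal
    rw [Ideal.comap_map_of_surjective f hf, ← RingHom.ker_eq_comap_bot, sup_eq_left]
    exact hker.trans (nilradical_le_prime q.asIdeal)
  map_rel_iff' := by
    intro p q
    exact Ideal.comap_le_comap_iff_of_surjective f hf p.asIdeal q.asIdeal

theorem height_comap (hf : Surjective f) (hker : RingHom.ker f ≤ nilradical R) (p : Ideal S)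
    [hp : p.IsPrime] : (p.comap f).height = p.height := by
  have h1 := PrimeSpectrum.height_eq_orderHeight (orderIso f hf hker ⟨p, hp⟩)
  have h2 := PrimeSpectrum.height_eq_orderHeight (⟨p, hp⟩ : PrimeSpectrum S)
  rw [Order.height_orderIso] at h1
  exact h1.trans h2.symm

end K692.NilHeight
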