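import Groth.Agent.DefT.K692.HBLift
import Groth.Agent.Divis.DepthTwo
import Mathlib.RingTheory.Nilpotent.Basic

/-!
# Ideals generated by minors lift: the Hilbert-Burch step for flat deformations
-/

set_option autoImplicit false

universe u v w

open TensorProduct Function

namespace K692.HBIdeal

open K692.NilFlat K692.HBLift Groth.Agent.Divis.RelFlat Groth.Agent.Divis.DepthTwo

section

variable {C : Type u} [CommRing C] (J : Ideal C) {A : Type v} [CommRing A] [Algebra C A]

/-- `(C/J) ⊗ (A/I) ≃ (A/JA)/I₀` for `I₀` the image of `I`. -/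
noncomputable def tensorEquivOfMap (I : Ideal A) (I₀ : Ideal (A ⧸ J.map (algebraMap C A)))
    (hI : I₀ = I.map (Ideal.Quotient.mk (J.map (algebraMap C A)))) :
    ((C ⧸ J) ⊗[C] (A ⧸ I)) ≃ₗ[C ⧸ J] ((A ⧸ J.map (algebraMap C A)) ⧸ I₀) := by
  let q : A →ₐ[C] ((A ⧸ J.map (algebraMap C A)) ⧸ I₀) :=
    (Ideal.Quotient.mkₐ C I₀).comp (Ideal.Quotient.mkₐ C (J.map (algebraMap C A)))
  have hq : ∀ a, q a = Ideal.Quotient.mk I₀ (Ideal.Quotient.mk (J.map (algebraMap C A)) a) := fun a => rfl
  have hqI : ∀ a ∈ I, q a = 0 := by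
    intro a ha
    rw [hq, Ideal.Quotient.eq_zero_iff_mem, hI]
    exact Ideal.mem_map_of_mem _ ha
  let π : (A ⧸ I) →ₐ[C] ((A ⧸ J.map (algebraMap C A)) ⧸ I₀) := Ideal.Quotient.liftₐ I q hqI
  have hπ : ∀ a, π (Ideal.Quotient.mk I a) =
    Ideal.Quotient.mk I₀ (Ideal.Quotient.mk (J.map (algebraMap C A)) a) := fun a => rfl
  have hsurj : Function.Surjective π.toLinearMap := by
    intro x
    obtain ⟨x, rfl⟩ := Ideal.Quotient.mk_surjective x
    obtain ⟨x, rfl⟩ := Ideal.Quotient.mk_surjective x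
    exact ⟨Ideal.Quotient.mk I x, rfl⟩
  have hker : LinearMap.ker π.toLinearMap = J • ⊤ := by
    rw [Ideal.smul_top_eq_map]
    ext x
    obtain ⟨a, rfl⟩ := Ideal.Quotient.mk_surjective x
    have h1 : (Ideal.Quotient.mk I a ∈ LinearMap.ker π.toLinearMap) ↔
        a ∈ I ⊔ J.map (algebraMap C A) := by
      rw [LinearMap.mem_ker]
      change π (Ideal.Quotient.mk I a) = 0 ↔ _
      rw [hπ, Ideal.Quotient.eq_zero_iff_mem, hI, ← Ideal.mem_comap,
        Ideal.comap_map_of_surjective _ Ideal.Quotient.mk_surjective, ← RingHom.ker_eq_comap_bot,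
        Ideal.mk_ker]
    have h2 : (Ideal.Quotient.mk I a ∈ (J.map (algebraMap C (A ⧸ I)))) ↔
        a ∈ I ⊔ J.map (algebraMap C A) := by
      have h3 : J.map (algebraMap C (A ⧸ I)) =
          (J.map (algebraMap C A)).map (Ideal.Quotient.mk I) := by
        rw [Ideal.map_map]
        rfl
      rw [h3, ← Ideal.mem_comap, Ideal.comap_map_of_surjective _ Ideal.Quotient.mk_surjective,
        ← RingHom.ker_eq_comap_bot, Ideal.mk_ker, sup_comm]
    exact h1.trans h2.symm
  let e : ((C ⧸ J) ⊗[C] (A ⧸ I)) ≃ₗ[C] ((A ⧸ J.map (algebraMap C A)) ⧸ I₀) :=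
    (TensorProduct.quotTensorEquivQuotSMul (A ⧸ I) J).trans
      ((Submodule.quotEquivOfEq _ _ hker.symm).trans (π.toLinearMap.quotKerEquivOfSurjective hsurj))
  exact e.extendScalarsOfSurjective (S := C ⧸ J) Ideal.Quotient.mk_surjective

theorem flat_map (I : Ideal A) (I₀ : Ideal (A ⧸ J.map (algebraMap C A)))
    (hI : I₀ = I.map (Ideal.Quotient.mk (J.map (algebraMap C A)))) [Module.Flat C (A ⧸ I)] :
    Module.Flat (C ⧸ J) ((A ⧸ J.map (algebraMap C A)) ⧸ I₀) :=
  Module.Flat.of_linearEquiv (tensorEquivOfMap J I I₀ hI).symm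

theorem flat_tensor (I : Ideal A) (I₀ : Ideal (A ⧸ J.map (algebraMap C A)))
    (hI : I₀ = I.map (Ideal.Quotient.mk (J.map (algebraMap C A))))
    (hflat : Module.Flat (C ⧸ J) ((A ⧸ J.map (algebraMap C A)) ⧸ I₀)) :
    Module.Flat (C ⧸ J) ((C ⧸ J) ⊗[C] (A ⧸ I)) :=
  Module.Flat.of_linearEquiv (tensorEquivOfMap J I I₀ hI)

theorem span_mins_map {B : Type*} [CommRing B] (g : A →+* B) {r : ℕ}
    (φ : Matrix (Fin (r + 1)) (Fin r) A) :
    Ideal.span (Set.range (mins (φ.map g))) = (Ideal.span (Set.range (mins φ))).map g := by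
  rw [Ideal.map_span, ← Set.range_comp]
  congr 2
  funext i
  exact mins_map φ g i

end

section

variable {C : Type u} [CommRing C] {J : Ideal C} {A : Type v} [CommRing A] [Algebra C A]

/-- exactness of `A^r → A^(r+1) → A` lifts -/
theorem exact_lift (hJ : IsNilpotent J) [Module.Flat C A] {r : ℕ}
    (φ : Matrix (Fin (r + 1)) (Fin r) A) (g : Fin (r + 1) → A)
    (hg : ∀ j, ∑ i, φ i j * g i = 0)
    (hinj : Injective (φ.map (Ideal.Quotient.mk (J.map (algebraMap C A)))).mulVecLin)
    (hrange : LinearMap.range (φ.map (Ideal.Quotient.mk (J.map (algebraMap C A)))).mulVecLin =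
      LinearMap.ker (Fintype.linearCombination (A ⧸ J.map (algebraMap C A))
        (fun i => Ideal.Quotient.mk (J.map (algebraMap C A)) (g i))))
    (hflat : Module.Flat (C ⧸ J) ((C ⧸ J) ⊗[C] (A ⧸ Ideal.span (Set.range g)))) :
    Injective φ.mulVecLin ∧
      LinearMap.range φ.mulVecLin = LinearMap.ker (Fintype.linearCombination A g) := by
  set K := J.map (algebraMap C A) with hK
  let f : (Fin r → A) →ₗ[C] (Fin (r + 1) → A) := φ.mulVecLin.restrictScalars C
  let g' : (Fin (r + 1) → A) →ₗ[C] A := (Fintype.linearCombination A g).restrictScalars C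
  have hgf : g' ∘ₗ f = 0 := LinearMap.ext fun x => by
    change Fintype.linearCombination A g (φ.mulVecLin x) = 0
    simp only [Fintype.linearCombination_apply, Matrix.mulVecLin_apply, Matrix.mulVec, dotProduct,
      smul_eq_mul, Finset.sum_mul]
    rw [Finset.sum_comm]
    refine Finset.sum_eq_zero fun j _ => ?_
    have h2 : ∑ i, φ i j * x j * g i = x j * ∑ i, φ i j * g i := by
      rw [Finset.mul_sum]
      refine Finset.sum_congr rfl fun i _ => ?_
      ring
    rw [h2, hg, mul_zero]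
  have hrg : LinearMap.range g' = (Ideal.span (Set.range g)).restrictScalars C := by
    rw [← range_linearCombination]
    rfl
  have h1 : ∀ x : Fin r → A, f x ∈ (J • ⊤ : Submodule C (Fin (r + 1) → A)) →
      x ∈ (J • ⊤ : Submodule C (Fin r → A)) := by
    intro x hx
    rw [mem_map_smul_top_pi] at hx ⊢
    have h2 : (φ.map (Ideal.Quotient.mk K)).mulVecLin (fun j => Ideal.Quotient.mk K (x j)) = 0 := by
      funext i
      rw [map_mulVec, Pi.zero_apply, Ideal.Quotient.eq_zero_iff_mem]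
      exact hx i
    have h3 := hinj (h2.trans (map_zero _).symm)
    intro i
    rw [← Ideal.Quotient.eq_zero_iff_mem]
    exact congrFun h3 i
  have h2 : ∀ y : Fin (r + 1) → A, g' y ∈ (J • ⊤ : Submodule C A) →
      ∃ x : Fin r → A, y - f x ∈ (J • ⊤ : Submodule C (Fin (r + 1) → A)) := by
    intro y hy
    rw [Ideal.smul_top_eq_map] at hy
    have hy2 : (fun j => Ideal.Quotient.mk K (y j)) ∈
        LinearMap.ker (Fintype.linearCombination (A ⧸ K) (fun i => Ideal.Quotient.mk K (g i))) := by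
      rw [LinearMap.mem_ker, map_linearCombination, Ideal.Quotient.eq_zero_iff_mem]
      exact hy
    rw [← hrange] at hy2
    obtain ⟨x₀, hx₀⟩ := hy2
    choose x hx using fun j => Ideal.Quotient.mk_surjective (x₀ j)
    refine ⟨x, ?_⟩
    rw [mem_map_smul_top_pi]
    intro i
    have h3 := congrFun hx₀ i
    have h4 : x₀ = fun j => Ideal.Quotient.mk K (x j) := funext fun j => (hx j).symm
    rw [h4, map_mulVec] at h3
    rw [← Ideal.Quotient.eq_zero_iff_mem]
    change Ideal.Quotient.mk K (y i - φ.mulVecLin x i) = 0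
    rw [map_sub, h3, sub_self]
  have hflat' : Module.Flat (C ⧸ J) ((C ⧸ J) ⊗[C] (A ⧸ LinearMap.range g')) := by
    rw [hrg]
    exact hflat
  have hf1 : ∀ n : ℕ, Module.Flat C (Fin n → A) := fun n =>
    Module.Flat.trans C A (Fin n → A)
  have hf2 := hf1 r
  have hf3 := hf1 (r + 1)
  obtain ⟨h3, h4, -⟩ := exact_and_flat hJ f g' hgf h1 h2 hflat'
  refine ⟨h3, ?_⟩
  ext y
  rw [LinearMap.mem_ker]
  exact (h4 y).symm

theorem exists_of_mem_mul_span (K : Ideal A) {n : ℕ} (g : Fin n → A) (x : A)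
    (hx : x ∈ K * Ideal.span (Set.range g)) :
    ∃ c : Fin n → A, (∀ i, c i ∈ K) ∧ ∑ i, c i * g i = x := by
  obtain ⟨a, ha, hs⟩ := (Submodule.mem_ideal_smul_span_iff_exists_sum K g x).1 hx
  refine ⟨fun i => a i, ha, ?_⟩
  rw [← hs, Finsupp.sum_fintype _ _ (fun i => by rw [zero_smul])]
  rfl

/-- Lifting the relations. -/
theorem exists_lift (I : Ideal A) [hI : Module.Flat C (A ⧸ I)] {r : ℕ}
    (φ₀ : Matrix (Fin (r + 1)) (Fin r) (A ⧸ J.map (algebraMap C A))) (g : Fin (r + 1) → A)
    (hg : I = Ideal.span (Set.range g))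
    (h : ∀ j, ∑ i, φ₀ i j * Ideal.Quotient.mk (J.map (algebraMap C A)) (g i) = 0) :
    ∃ φ : Matrix (Fin (r + 1)) (Fin r) A, φ.map (Ideal.Quotient.mk (J.map (algebraMap C A))) = φ₀ ∧
      ∀ j, ∑ i, φ i j * g i = 0 := by
  choose ψ hψ using fun i j => Ideal.Quotient.mk_surjective (φ₀ i j)
  have h1 : ∀ j, ∑ i, ψ i j * g i ∈ J.map (algebraMap C A) * I := by
    intro j
    apply map_inf_le_of_flat J I hI
    refine ⟨?_, ?_⟩
    · change _ ∈ J.map (algebraMap C A)
      rw [← Ideal.Quotient.eq_zero_iff_mem, map_sum]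
      simpa only [map_mul, hψ] using h j
    · rw [hg]
      exact Ideal.sum_mem _ fun i _ => Ideal.mul_mem_left _ _ (Ideal.subset_span ⟨i, rfl⟩)
  have h2 : ∀ j, ∃ c : Fin (r + 1) → A, (∀ i, c i ∈ J.map (algebraMap C A)) ∧
      ∑ i, c i * g i = ∑ i, ψ i j * g i := by
    intro j
    have h3 := h1 j
    rw [hg] at h3
    exact exists_of_mem_mul_span _ g _ h3
  choose c hc hcs using h2
  refine ⟨fun i j => ψ i j - c j i, ?_, fun j => ?_⟩
  · ext i j
    simp only [Matrix.map_apply, map_sub, hψ]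
    rw [Ideal.Quotient.eq_zero_iff_mem.2 (hc j i), sub_zero]
  · simp only [sub_mul, Finset.sum_sub_distrib, hcs, sub_self]

/-- Comparison of two vectors with the same relations, one of which generates an ideal containing a
regular pair. -/
theorem exists_mul_eq {n : ℕ} (g h : Fin n → A)
    (hker : LinearMap.ker (Fintype.linearCombination A g) = LinearMap.ker (Fintype.linearCombination A h))
    {a b : A} (ha : a ∈ Ideal.span (Set.range g)) (hb : b ∈ Ideal.span (Set.range g))
    (hab : RegPair a b A) : ∃ u : A, ∀ i, h i = u * g i := by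
  rw [← range_linearCombination] at ha hb
  obtain ⟨x, hx⟩ := ha
  obtain ⟨y, hy⟩ := hb
  have h1 : ∀ z : Fin n → A, Fintype.linearCombination A g z = 0 →
      Fintype.linearCombination A h z = 0 := by
    intro z hz
    have : z ∈ LinearMap.ker (Fintype.linearCombination A g) := hz
    rw [hker] at this
    exact this
  have h2 : ∀ z w : Fin n → A, Fintype.linearCombination A g w * Fintype.linearCombination A h z =
      Fintype.linearCombination A g z * Fintype.linearCombination A h w := by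
    intro z w
    have h3 := h1 (Fintype.linearCombination A g w • z - Fintype.linearCombination A g z • w) (by
      rw [map_sub, map_smul, map_smul, smul_eq_mul, smul_eq_mul, mul_comm, sub_self])
    rw [map_sub, map_smul, map_smul, smul_eq_mul, smul_eq_mul, sub_eq_zero] at h3
    exact h3
  obtain ⟨u, hu⟩ := hab.div (Fintype.linearCombination A h x) (Fintype.linearCombination A h y) (by
    rw [smul_eq_mul, smul_eq_mul, ← hx, ← hy]
    exact h2 _ _)
  refine ⟨u, fun i => ?_⟩
  have h3 := h2 (Pi.single i 1) x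
  rw [hx, hu, Fintype.linearCombination_apply_single, Fintype.linearCombination_apply_single] at h3
  simp only [smul_eq_mul, one_mul] at h3
  apply hab.inj'
  rw [smul_eq_mul, smul_eq_mul, h3]
  ring

/-- **Flat lifts of ideals of minors are ideals of minors.** -/
theorem exists_minors (hJ : IsNilpotent J) [Module.Flat C A] (I : Ideal A) [Module.Flat C (A ⧸ I)]
    {r : ℕ} (φ₀ : Matrix (Fin (r + 1)) (Fin r) (A ⧸ J.map (algebraMap C A)))
    (hex : HBExact φ₀)
    (hspan : I.map (Ideal.Quotient.mk (J.map (algebraMap C A))) = Ideal.span (Set.range (mins φ₀)))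
    {a b : A} (ha : a ∈ I) (hb : b ∈ I) (hab : RegPair a b A)
    (ha0 : ∀ x, a * x ∈ J.map (algebraMap C A) → x ∈ J.map (algebraMap C A)) :
    ∃ φ : Matrix (Fin (r + 1)) (Fin r) A, φ.map (Ideal.Quotient.mk (J.map (algebraMap C A))) = φ₀ ∧
      HBExact φ ∧ I = Ideal.span (Set.range (mins φ)) := by
  have hm : ∀ i, ∃ x ∈ I, Ideal.Quotient.mk (J.map (algebraMap C A)) x = mins φ₀ i := by
    intro i
    have h1 : mins φ₀ i ∈ I.map (Ideal.Quotient.mk (J.map (algebraMap C A))) := by
      rw [hspan]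
      exact Ideal.subset_span ⟨i, rfl⟩
    rwa [Ideal.mem_map_iff_of_surjective _ Ideal.Quotient.mk_surjective] at h1
  choose g hgI hg using hm
  have hgfun : (fun i => Ideal.Quotient.mk (J.map (algebraMap C A)) (g i)) = mins φ₀ := funext hg
  have hIg : I = Ideal.span (Set.range g) := by
    refine eq_span_of_flat_quotient hJ I g hgI ?_
    have h1 : I.map (Ideal.Quotient.mk (J.map (algebraMap C A))) ≤
        (Ideal.span (Set.range g)).map (Ideal.Quotient.mk (J.map (algebraMap C A))) := by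
      rw [hspan, Ideal.map_span, ← Set.range_comp]
      exact le_of_eq (by rw [← hgfun]; rfl)
    rw [Ideal.map_le_iff_le_comap, Ideal.comap_map_of_surjective _ Ideal.Quotient.mk_surjective,
      ← RingHom.ker_eq_comap_bot, Ideal.mk_ker] at h1
    exact h1
  have hrel : ∀ j, ∑ i, φ₀ i j * Ideal.Quotient.mk (J.map (algebraMap C A)) (g i) = 0 := by
    intro j
    have h1 := linearCombination_mins_mulVec φ₀ (Pi.single j 1)
    rw [Matrix.mulVecLin_apply, Matrix.mulVec_single_one, Fintype.linearCombination_apply] at h1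
    simp only [smul_eq_mul, Matrix.col_apply] at h1
    simpa only [hg] using h1
  obtain ⟨φ, hφ, hφg⟩ := exists_lift I φ₀ g hIg hrel
  have hfl : Module.Flat (C ⧸ J) ((A ⧸ J.map (algebraMap C A)) ⧸
      I.map (Ideal.Quotient.mk (J.map (algebraMap C A)))) := flat_map J I _ rfl
  have hfl1 : Module.Flat (C ⧸ J) ((C ⧸ J) ⊗[C] (A ⧸ Ideal.span (Set.range g))) := by
    rw [← hIg]
    infer_instance
  obtain ⟨-, hkerg⟩ := exact_lift hJ φ g hφg (by rw [hφ]; exact hex.1)
    (by rw [hφ, hgfun]; exact hex.2) hfl1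
  have hfl2 : Module.Flat (C ⧸ J) ((C ⧸ J) ⊗[C] (A ⧸ Ideal.span (Set.range (mins φ)))) := by
    refine flat_tensor J _ _ ?_ hfl
    rw [← span_mins_map, hφ, hspan]
  obtain ⟨hexφ, -⟩ := hbExact_and_flat hJ φ (by rw [hφ]; exact hex) hfl2
  obtain ⟨u, hu⟩ := exists_mul_eq g (mins φ) (hkerg.symm.trans hexφ.2) (hIg ▸ ha) (hIg ▸ hb) hab
  have h1 : ∀ i, (u - 1) * g i ∈ J.map (algebraMap C A) := by
    intro i
    rw [← Ideal.Quotient.eq_zero_iff_mem, sub_mul, one_mul, map_sub, ← hu, ← mins_map, hφ, hg, sub_self]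
  have h2 : (u - 1) * a ∈ J.map (algebraMap C A) := by
    have h3 : ∀ x ∈ Ideal.span (Set.range g), (u - 1) * x ∈ J.map (algebraMap C A) := by
      intro x hx
      induction hx using Submodule.span_induction with
      | mem x hx =>
        obtain ⟨i, rfl⟩ := hx
        exact h1 i
      | zero => rw [mul_zero]; exact zero_mem _
      | add x y _ _ hx hy => rw [mul_add]; exact add_mem hx hy
      | smul c x _ hx =>
        rw [smul_eq_mul, mul_left_comm]
        exact Ideal.mul_mem_left _ _ hx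
    exact h3 a (hIg ▸ ha)
  have h3 : u - 1 ∈ J.map (algebraMap C A) := ha0 _ (by rwa [mul_comm])
  have h4 : IsUnit u := by
    have hnil : IsNilpotent (J.map (algebraMap C A)) := by
      obtain ⟨n, hn⟩ := hJ
      refine ⟨n, ?_⟩
      rw [← Ideal.map_pow, hn]
      exact Ideal.map_bot
    have h5 : IsNilpotent (u - 1) := by
      obtain ⟨n, hn⟩ := hnil
      refine ⟨n, ?_⟩
      have := Ideal.pow_mem_pow h3 n
      rw [hn] at this
      exact this
    have := h5.isUnit_add_one
    simpa using this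
  refine ⟨φ, hφ, hexφ, ?_⟩
  rw [hIg]
  refine le_antisymm ?_ ?_
  · rw [Ideal.span_le]
    rintro _ ⟨i, rfl⟩
    have h6 : g i = ↑h4.unit⁻¹ * mins φ i := by
      rw [hu, ← mul_assoc, IsUnit.val_inv_mul, one_mul]
    rw [h6]
    exact Ideal.mul_mem_left _ _ (Ideal.subset_span ⟨i, rfl⟩)
  · rw [Ideal.span_le]
    rintro _ ⟨i, rfl⟩
    rw [hu]
    exact Ideal.mul_mem_left _ _ (Ideal.subset_span ⟨i, rfl⟩)

end

end K692.HBIdeal
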