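import Groth.Agent.DefT.K692.NilReg
import Groth.Agent.S12906
import Mathlib.LinearAlgebra.TensorProduct.Quotient
import Mathlib.LinearAlgebra.Matrix.ToLin
import Mathlib.LinearAlgebra.Matrix.Determinant.Basic

/-!
# Lifting Hilbert-Burch resolutions along a nilpotent ideal

`C` a ring, `J` a nilpotent ideal, `A` a flat `C`-algebra, `φ` an `(r+1) × r` matrix over `A` whose reduction modulo
`J A` gives an exact sequence `0 → Ā^r → Ā^{r+1} → Ā` (signed minors) with `C/J`-flat cokernel: then the same holds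
for `φ` over `A`.
-/

set_option autoImplicit false

universe u v w

open TensorProduct Function

namespace K692.HBLift

open K692.NilFlat K692.NilReg

/-- signed maximal minors -/
def mins {A : Type v} [CommRing A] {r : ℕ} (φ : Matrix (Fin (r + 1)) (Fin r) A) : Fin (r + 1) → A :=
  fun i => (-1 : A) ^ (i : ℕ) * (φ.submatrix i.succAbove id).det

/-- exactness of `0 → A^r → A^{r+1} → A`. -/
def HBExact {A : Type v} [CommRing A] {r : ℕ} (φ : Matrix (Fin (r + 1)) (Fin r) A) : Prop :=
  Function.Injective φ.mulVecLin ∧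
    LinearMap.range φ.mulVecLin = LinearMap.ker (Fintype.linearCombination A (mins φ))

section

variable {A : Type v} [CommRing A] {B : Type w} [CommRing B]

theorem mins_map {r : ℕ} (φ : Matrix (Fin (r + 1)) (Fin r) A) (g : A →+* B) (i : Fin (r + 1)) :
    mins (φ.map g) i = g (mins φ i) := by
  simp only [mins, map_mul, map_pow, map_neg, map_one, RingHom.map_det]
  rfl

theorem map_mulVec {n m : ℕ} (φ : Matrix (Fin m) (Fin n) A) (g : A →+* B) (x : Fin n → A) (i : Fin m) :
    (φ.map g).mulVecLin (fun j => g (x j)) i = g (φ.mulVecLin x i) := by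
  simp only [Matrix.mulVecLin_apply, Matrix.mulVec, dotProduct, Matrix.map_apply, map_sum, map_mul]

theorem map_linearCombination {n : ℕ} (f : Fin n → A) (g : A →+* B) (x : Fin n → A) :
    Fintype.linearCombination B (fun i => g (f i)) (fun j => g (x j)) =
      g (Fintype.linearCombination A f x) := by
  simp only [Fintype.linearCombination_apply, smul_eq_mul, map_sum, map_mul]

theorem linearCombination_mins_mulVec {r : ℕ} (φ : Matrix (Fin (r + 1)) (Fin r) A) (x : Fin r → A) :
    Fintype.linearCombination A (mins φ) (φ.mulVecLin x) = 0 := by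
  simp only [Fintype.linearCombination_apply, Matrix.mulVecLin_apply, Matrix.mulVec, dotProduct,
    smul_eq_mul, Finset.sum_mul]
  rw [Finset.sum_comm]
  refine Finset.sum_eq_zero fun j _ => ?_
  have h := Groth.Agent.S12906.result r φ j
  have h2 : ∑ i, φ i j * x j * mins φ i = x j * ∑ i : Fin (r + 1), (-1 : A) ^ (i : ℕ) *
      (φ.submatrix i.succAbove id).det * φ i j := by
    rw [Finset.mul_sum]
    refine Finset.sum_congr rfl fun i _ => ?_
    simp only [mins]
    ring
  rw [h2, h, mul_zero]

theorem range_linearCombination {n : ℕ} (f : Fin n → A) :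
    LinearMap.range (Fintype.linearCombination A f) = Ideal.span (Set.range f) :=
  Fintype.range_linearCombination A f

/-- pi of finitely many copies. -/
theorem mem_map_smul_top_pi {C : Type u} [CommRing C] [Algebra C A] (J : Ideal C) {n : ℕ} (x : Fin n → A) :
    x ∈ (J • ⊤ : Submodule C (Fin n → A)) ↔ ∀ i, x i ∈ J.map (algebraMap C A) := by
  constructor
  · intro h i
    have h1 : (LinearMap.proj i : (Fin n → A) →ₗ[C] A) x ∈
        (J • ⊤ : Submodule C (Fin n → A)).map (LinearMap.proj i) := Submodule.mem_map_of_mem h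
    rw [Submodule.map_smul''] at h1
    have h2 : x i ∈ (J • ⊤ : Submodule C A) := (Submodule.smul_mono le_rfl le_top) h1
    rw [Ideal.smul_top_eq_map] at h2
    exact h2
  · intro h
    have h1 : x = ∑ i, (LinearMap.single C (fun _ : Fin n => A) i) (x i) := by
      funext j
      simp [Finset.sum_apply, Pi.single_apply]
    rw [h1]
    refine Submodule.sum_mem _ fun i _ => ?_
    have h3 : x i ∈ (J • ⊤ : Submodule C A) := by
      rw [Ideal.smul_top_eq_map]
      exact h i
    have h2 : (LinearMap.single C (fun _ : Fin n => A) i) (x i) ∈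
        (J • ⊤ : Submodule C A).map (LinearMap.single C (fun _ : Fin n => A) i) :=
      Submodule.mem_map_of_mem h3
    rw [Submodule.map_smul''] at h2
    exact (Submodule.smul_mono le_rfl le_top) h2

end

/-- Flatness of `C/J ⊗ N` from a model `N₀` of `N/JN`. -/
theorem flat_tensor_of {C : Type u} [CommRing C] {J : Ideal C} {N : Type v} {N₀ : Type w}
    [AddCommGroup N] [Module C N] [AddCommGroup N₀] [Module (C ⧸ J) N₀] [Module C N₀]
    [IsScalarTower C (C ⧸ J) N₀] (π : N →ₗ[C] N₀) (hπ : Surjective π)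
    (hker : LinearMap.ker π = J • ⊤) [hflat : Module.Flat (C ⧸ J) N₀] :
    Module.Flat (C ⧸ J) ((C ⧸ J) ⊗[C] N) := by
  let e : ((C ⧸ J) ⊗[C] N) ≃ₗ[C] N₀ :=
    (TensorProduct.quotTensorEquivQuotSMul N J).trans
      ((Submodule.quotEquivOfEq _ _ hker.symm).trans (π.quotKerEquivOfSurjective hπ))
  let e' : ((C ⧸ J) ⊗[C] N) ≃ₗ[C ⧸ J] N₀ :=
    e.extendScalarsOfSurjective (S := C ⧸ J) Ideal.Quotient.mk_surjective
  exact Module.Flat.of_linearEquiv e'

section

variable {C : Type u} [CommRing C] {J : Ideal C} {A : Type v} [CommRing A] [Algebra C A]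

/-- **Lifting exactness of the Hilbert-Burch complex.** -/
theorem hbExact_and_flat (hJ : IsNilpotent J) [Module.Flat C A] {r : ℕ}
    (φ : Matrix (Fin (r + 1)) (Fin r) A)
    (h : HBExact (φ.map (Ideal.Quotient.mk (J.map (algebraMap C A)))))
    (hflat : Module.Flat (C ⧸ J) ((C ⧸ J) ⊗[C] (A ⧸ Ideal.span (Set.range (mins φ))))) :
    HBExact φ ∧ Module.Flat C (A ⧸ Ideal.span (Set.range (mins φ))) := by
  set K := J.map (algebraMap C A) with hK
  let f : (Fin r → A) →ₗ[C] (Fin (r + 1) → A) := φ.mulVecLin.restrictScalars C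
  let g : (Fin (r + 1) → A) →ₗ[C] A := (Fintype.linearCombination A (mins φ)).restrictScalars C
  have hgf : g ∘ₗ f = 0 := LinearMap.ext fun x => linearCombination_mins_mulVec φ x
  have hrg : LinearMap.range g = (Ideal.span (Set.range (mins φ))).restrictScalars C := by
    rw [← range_linearCombination]
    rfl
  obtain ⟨hinj, hrange⟩ := h
  have h1 : ∀ x : Fin r → A, f x ∈ (J • ⊤ : Submodule C (Fin (r + 1) → A)) →
      x ∈ (J • ⊤ : Submodule C (Fin r → A)) := by
    intro x hx
    rw [mem_map_smul_top_pi] at hx ⊢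
    have h2 : (φ.map (Ideal.Quotient.mk K)).mulVecLin (fun j => Ideal.Quotient.mk K (x j)) = 0 := by
      funext i
      rw [map_mulVec, Pi.zero_apply, Ideal.Quotient.eq_zero_iff_mem]
      exact hx i
    have h3 := hinj (h2.trans (map_zero _).symm)
    intro i
    rw [← Ideal.Quotient.eq_zero_iff_mem]
    exact congrFun h3 i
  have hmins : (mins (φ.map (Ideal.Quotient.mk K))) = fun i => Ideal.Quotient.mk K (mins φ i) :=
    funext fun i => mins_map φ _ i
  have h2 : ∀ y : Fin (r + 1) → A, g y ∈ (J • ⊤ : Submodule C A) →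
      ∃ x : Fin r → A, y - f x ∈ (J • ⊤ : Submodule C (Fin (r + 1) → A)) := by
    intro y hy
    rw [Ideal.smul_top_eq_map] at hy
    have hy2 : (fun j => Ideal.Quotient.mk K (y j)) ∈
        LinearMap.ker (Fintype.linearCombination (A ⧸ K) (mins (φ.map (Ideal.Quotient.mk K)))) := by
      rw [LinearMap.mem_ker, hmins, map_linearCombination, Ideal.Quotient.eq_zero_iff_mem]
      exact hy
    rw [← hrange] at hy2
    obtain ⟨x₀, hx₀⟩ := hy2
    choose x hx using fun j => Ideal.Quotient.mk_surjective (x₀ j)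
    refine ⟨x, ?_⟩
    rw [mem_map_smul_top_pi]
    intro i
    have h3 := congrFun hx₀ i
    have h4 : x₀ = fun j => Ideal.Quotient.mk K (x j) := funext fun j => (hx j).symm
    rw [h4, map_mulVec] at h3
    rw [← Ideal.Quotient.eq_zero_iff_mem]
    change Ideal.Quotient.mk K (y i - φ.mulVecLin x i) = 0
    rw [map_sub, h3, sub_self]
  have hflat' : Module.Flat (C ⧸ J) ((C ⧸ J) ⊗[C] (A ⧸ LinearMap.range g)) := by
    rw [hrg]
    exact hflat
  have hf1 : ∀ n : ℕ, Module.Flat C (Fin n → A) := fun n =>
    Module.Flat.trans C A (Fin n → A)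
  have hf2 := hf1 r
  have hf3 := hf1 (r + 1)
  obtain ⟨h3, h4, h5⟩ := exact_and_flat hJ f g hgf h1 h2 hflat'
  refine ⟨⟨h3, ?_⟩, ?_⟩
  · ext y
    rw [LinearMap.mem_ker]
    exact (h4 y).symm
  · rw [hrg] at h5
    exact h5

end

end K692.HBLift
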