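import Groth.Agent.DefT.K692.HBLift
import Mathlib.RingTheory.Localization.Integer
import Mathlib.RingTheory.Localization.AtPrime.Basic
import Mathlib.RingTheory.Noetherian.Basic

/-!
# Spreading out Hilbert-Burch resolutions
-/

set_option autoImplicit false

universe u v w

open Function

namespace K692.HBSpread

open K692.HBLift

section unit

variable {S : Type v} [CommRing S] {r : ℕ}

theorem mins_smul (t : S) (Φ : Matrix (Fin (r + 1)) (Fin r) S) (i : Fin (r + 1)) :
    mins (t • Φ) i = t ^ r * mins Φ i := by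
  have h1 : (t • Φ).submatrix i.succAbove id = t • Φ.submatrix i.succAbove id := rfl
  simp only [mins, h1, Matrix.det_smul, Fintype.card_fin]
  ring

theorem mulVecLin_smul (t : S) (Φ : Matrix (Fin (r + 1)) (Fin r) S) (x : Fin r → S) :
    (t • Φ).mulVecLin x = t • Φ.mulVecLin x := by
  rw [Matrix.mulVecLin_apply, Matrix.mulVecLin_apply, Matrix.smul_mulVec]

theorem linearCombination_mul (t : S) {n : ℕ} (f : Fin n → S) (y : Fin n → S) :
    Fintype.linearCombination S (fun i => t * f i) y = t * Fintype.linearCombination S f y := by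
  simp only [Fintype.linearCombination_apply, smul_eq_mul, Finset.mul_sum]
  refine Finset.sum_congr rfl fun i _ => ?_
  ring

theorem HBExact_smul {t : S} (ht : IsUnit t) {Φ : Matrix (Fin (r + 1)) (Fin r) S} (h : HBExact Φ) :
    HBExact (t • Φ) := by
  obtain ⟨u, rfl⟩ := ht
  constructor
  · intro x y hxy
    rw [mulVecLin_smul, mulVecLin_smul] at hxy
    apply h.1
    have := congrArg (fun z => (↑u⁻¹ : S) • z) hxy
    simpa [smul_smul] using this
  · have hfun : mins ((u : S) • Φ) = fun i => (u : S) ^ r * mins Φ i := funext fun i => mins_smul _ _ _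
    ext y
    rw [LinearMap.mem_ker, hfun, linearCombination_mul, (u.isUnit.pow r).mul_right_eq_zero,
      ← LinearMap.mem_ker, ← h.2]
    constructor
    · rintro ⟨x, rfl⟩
      exact ⟨(u : S) • x, by rw [mulVecLin_smul, map_smul]⟩
    · rintro ⟨x, rfl⟩
      exact ⟨(↑u⁻¹ : S) • x, by rw [mulVecLin_smul, map_smul, smul_smul, Units.mul_inv, one_smul]⟩

theorem span_mins_smul {t : S} (ht : IsUnit t) (Φ : Matrix (Fin (r + 1)) (Fin r) S) :
    Ideal.span (Set.range (mins (t • Φ))) = Ideal.span (Set.range (mins Φ)) := by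
  have hfun : mins (t • Φ) = fun i => t ^ r * mins Φ i := funext fun i => mins_smul _ _ _
  rw [hfun]
  refine le_antisymm ?_ ?_
  · rw [Ideal.span_le]
    rintro _ ⟨i, rfl⟩
    exact Ideal.mul_mem_left _ _ (Ideal.subset_span ⟨i, rfl⟩)
  · rw [Ideal.span_le]
    rintro _ ⟨i, rfl⟩
    have h1 := ht.pow r
    have h2 : mins Φ i = (↑h1.unit⁻¹ : S) * (t ^ r * mins Φ i) := by
      rw [← mul_assoc, IsUnit.val_inv_mul, one_mul]
    rw [h2]
    exact Ideal.mul_mem_left _ _ (Ideal.subset_span ⟨i, rfl⟩)

end unit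

section loc

variable {R : Type u} [CommRing R] {r : ℕ}

/-- Exactness away from `s`. -/
structure ExactAt (s : R) (Ψ : Matrix (Fin (r + 1)) (Fin r) R) (I : Ideal R) : Prop where
  inj : ∀ x, Ψ.mulVecLin x = 0 → s • x = 0
  exact : ∀ y, Fintype.linearCombination R (mins Ψ) y = 0 → ∃ x, Ψ.mulVecLin x = s • y
  le : ∀ a ∈ I, s * a ∈ Ideal.span (Set.range (mins Ψ))
  ge : ∀ a ∈ Ideal.span (Set.range (mins Ψ)), s * a ∈ I

theorem ExactAt.hbExact {s : R} {Ψ : Matrix (Fin (r + 1)) (Fin r) R} {I : Ideal R} (h : ExactAt s Ψ I)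
    (M : Submonoid R) (hs : s ∈ M) {S : Type v} [CommRing S] [Algebra R S] [IsLocalization M S] :
    HBExact (Ψ.map (algebraMap R S)) ∧
      Ideal.span (Set.range (mins (Ψ.map (algebraMap R S)))) = I.map (algebraMap R S) := by
  classical
  have hsu : IsUnit (algebraMap R S s) := IsLocalization.map_units S ⟨s, hs⟩
  -- common denominators
  have hden : ∀ {n : ℕ} (x : Fin n → S), ∃ (b : R) (x' : Fin n → R), IsUnit (algebraMap R S b) ∧
      ∀ i, algebraMap R S (x' i) = algebraMap R S b * x i := by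
    intro n x
    obtain ⟨b, hb⟩ := IsLocalization.exist_integer_multiples_of_finite M x
    choose x' hx' using hb
    exact ⟨b, x', IsLocalization.map_units S b, fun i => by rw [hx' i, Algebra.smul_def]⟩
  refine ⟨⟨?_, ?_⟩, ?_⟩
  · rw [← LinearMap.ker_eq_bot, LinearMap.ker_eq_bot']
    intro x hx
    obtain ⟨b, x', hb, hx'⟩ := hden x
    have h1 : (Ψ.map (algebraMap R S)).mulVecLin (fun j => algebraMap R S (x' j)) = 0 := by
      have : (fun j => algebraMap R S (x' j)) = algebraMap R S b • x := funext hx'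
      rw [this, map_smul, hx, smul_zero]
    have h2 : ∀ i, ∃ c : M, (c : R) * Ψ.mulVecLin x' i = 0 := by
      intro i
      have := congrFun h1 i
      rw [map_mulVec, Pi.zero_apply, IsLocalization.map_eq_zero_iff M] at this
      exact this
    choose c hc using h2
    have h3 : Ψ.mulVecLin ((∏ i, (c i : R)) • x') = 0 := by
      funext i
      rw [map_smul, Pi.smul_apply, smul_eq_mul, Pi.zero_apply]
      rw [← Finset.prod_erase_mul _ _ (Finset.mem_univ i), mul_assoc, hc, mul_zero]
    have h4 := h.inj _ h3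
    have h5 : IsUnit (algebraMap R S (s * ∏ i, (c i : R))) := by
      rw [map_mul, map_prod]
      exact hsu.mul (IsUnit.prod_univ_iff.2 fun i => IsLocalization.map_units S (c i))
    funext j
    have h6 := congrFun h4 j
    simp only [Pi.smul_apply, smul_eq_mul, Pi.zero_apply] at h6
    have h7 : algebraMap R S (s * ∏ i, (c i : R)) * (algebraMap R S b * x j) = 0 := by
      rw [← hx', ← map_mul, mul_assoc, h6, map_zero]
    rw [h5.mul_right_eq_zero, hb.mul_right_eq_zero] at h7
    exact h7
  · apply le_antisymm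
    · rintro _ ⟨x, rfl⟩
      rw [LinearMap.mem_ker]
      exact linearCombination_mins_mulVec _ _
    · intro y hy
      rw [LinearMap.mem_ker] at hy
      obtain ⟨b, y', hb, hy'⟩ := hden y
      have hfun : mins (Ψ.map (algebraMap R S)) = fun i => algebraMap R S (mins Ψ i) :=
        funext fun i => mins_map _ _ _
      have h1 : Fintype.linearCombination S (mins (Ψ.map (algebraMap R S)))
          (fun j => algebraMap R S (y' j)) = 0 := by
        have : (fun j => algebraMap R S (y' j)) = algebraMap R S b • y := funext hy'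
        rw [this, map_smul, hy, smul_zero]
      rw [hfun, map_linearCombination, IsLocalization.map_eq_zero_iff M] at h1
      obtain ⟨c, hc⟩ := h1
      obtain ⟨x, hx⟩ := h.exact ((c : R) • y') (by rw [map_smul, smul_eq_mul, hc])
      have hcu : IsUnit (algebraMap R S (s * c) * algebraMap R S b) := by
        rw [map_mul]
        exact (hsu.mul (IsLocalization.map_units S c)).mul hb
      refine ⟨(↑hcu.unit⁻¹ : S) • (fun j => algebraMap R S (x j)), ?_⟩
      rw [map_smul]
      have h2 : (Ψ.map (algebraMap R S)).mulVecLin (fun j => algebraMap R S (x j)) =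
          (algebraMap R S (s * c) * algebraMap R S b) • y := by
        funext i
        rw [map_mulVec, hx]
        simp only [Pi.smul_apply, smul_eq_mul, map_mul, hy']
        ring
      rw [h2, smul_smul, IsUnit.val_inv_mul, one_smul]
  · have hfun : mins (Ψ.map (algebraMap R S)) = (algebraMap R S) ∘ (mins Ψ) :=
      funext fun i => mins_map _ _ _
    rw [hfun, Set.range_comp, ← Ideal.map_span]
    apply le_antisymm
    · rw [Ideal.map_le_iff_le_comap]
      intro a ha
      have h1 := Ideal.mem_map_of_mem (algebraMap R S) (h.ge a ha)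
      rw [map_mul, Ideal.unit_mul_mem_iff_mem _ hsu] at h1
      exact h1
    · rw [Ideal.map_le_iff_le_comap]
      intro a ha
      have h1 := Ideal.mem_map_of_mem (algebraMap R S) (h.le a ha)
      rw [map_mul, Ideal.unit_mul_mem_iff_mem _ hsu] at h1
      exact h1

/-- finitely generated submodules: uniform denominators -/
theorem exists_uniform {N : Type w} [AddCommGroup N] [Module R N] (M : Submonoid R)
    (K : Submodule R N) (hK : K.FG) (P : Submodule R N) (h : ∀ x ∈ K, ∃ s ∈ M, s • x ∈ P) :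
    ∃ s ∈ M, ∀ x ∈ K, s • x ∈ P := by
  classical
  obtain ⟨S, rfl⟩ := hK
  have h1 : ∀ x : S, ∃ s ∈ M, s • (x : N) ∈ P := fun x => h x (Submodule.subset_span x.2)
  choose s hs hsx using h1
  refine ⟨∏ x : S, s x, M.prod_mem fun x _ => hs x, fun x hx => ?_⟩
  induction hx using Submodule.span_induction with
  | mem x hx =>
    rw [← Finset.prod_erase_mul _ _ (Finset.mem_univ (⟨x, hx⟩ : S)), mul_smul]
    exact P.smul_mem _ (hsx ⟨x, hx⟩)
  | zero => rw [smul_zero]; exact P.zero_mem
  | add x y _ _ hx hy => rw [smul_add]; exact P.add_mem hx hy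
  | smul a x _ hx => rw [smul_comm]; exact P.smul_mem _ hx

theorem exists_exactAt [IsNoetherianRing R] (M : Submonoid R) {S : Type v} [CommRing S] [Algebra R S]
    [IsLocalization M S] (I : Ideal R) (Ψ : Matrix (Fin (r + 1)) (Fin r) R)
    (hex : HBExact (Ψ.map (algebraMap R S)))
    (hspan : Ideal.span (Set.range (mins (Ψ.map (algebraMap R S)))) = I.map (algebraMap R S)) :
    ∃ s ∈ M, ExactAt s Ψ I := by
  classical
  have hfun : mins (Ψ.map (algebraMap R S)) = (algebraMap R S) ∘ (mins Ψ) :=
    funext fun i => mins_map _ _ _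
  have hmul : ∀ x, ∀ i, (Ψ.map (algebraMap R S)).mulVecLin (fun j => algebraMap R S (x j)) i =
      algebraMap R S (Ψ.mulVecLin x i) := fun x i => map_mulVec _ _ _ _
  have hvec : ∀ {n : ℕ} (x y : Fin n → R), (∀ i, algebraMap R S (x i) = algebraMap R S (y i)) →
      ∃ s ∈ M, s • x = s • y := by
    intro n x y hxy
    have h1 : ∀ i, ∃ c : M, (c : R) * x i = c * y i := fun i =>
      (IsLocalization.eq_iff_exists M S).1 (hxy i)
    choose c hc using h1
    refine ⟨∏ i, (c i : R), M.prod_mem fun i _ => (c i).2, ?_⟩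
    funext i
    simp only [Pi.smul_apply, smul_eq_mul]
    rw [← Finset.prod_erase_mul _ _ (Finset.mem_univ i), mul_assoc, hc, mul_assoc]
  obtain ⟨s₁, hs₁, h₁⟩ := exists_uniform M (LinearMap.ker Ψ.mulVecLin) (IsNoetherian.noetherian _) ⊥ (by
    intro x hx
    have h2 : (Ψ.map (algebraMap R S)).mulVecLin (fun j => algebraMap R S (x j)) = 0 := by
      funext i
      rw [hmul, LinearMap.mem_ker.1 hx]
      simp
    have h3 := hex.1 (h2.trans (map_zero _).symm)
    obtain ⟨s, hs, hsx⟩ := hvec x 0 (fun i => by rw [Pi.zero_apply, map_zero]; exact congrFun h3 i)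
    exact ⟨s, hs, by rw [hsx, smul_zero]; exact zero_mem _⟩)
  obtain ⟨s₂, hs₂, h₂⟩ := exists_uniform M (LinearMap.ker (Fintype.linearCombination R (mins Ψ)))
    (IsNoetherian.noetherian _) (LinearMap.range Ψ.mulVecLin) (by
    intro y hy
    have h2 : (fun j => algebraMap R S (y j)) ∈
        LinearMap.ker (Fintype.linearCombination S (mins (Ψ.map (algebraMap R S)))) := by
      rw [LinearMap.mem_ker, hfun]
      exact (map_linearCombination _ _ _).trans (by rw [LinearMap.mem_ker.1 hy, map_zero])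
    rw [← hex.2] at h2
    obtain ⟨x, hx⟩ := h2
    obtain ⟨b, hb⟩ := IsLocalization.exist_integer_multiples_of_finite M x
    choose x' hx' using hb
    have h3 : (fun j => algebraMap R S (x' j)) = algebraMap R S b • x := by
      funext j
      rw [hx' j, Algebra.smul_def]
      rfl
    obtain ⟨s, hs, hsx⟩ := hvec (Ψ.mulVecLin x') ((b : R) • y) (fun i => by
      rw [← hmul, h3, map_smul, hx, Pi.smul_apply, smul_eq_mul, Pi.smul_apply, smul_eq_mul, map_mul])
    refine ⟨s * b, M.mul_mem hs b.2, s • x', ?_⟩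
    rw [map_smul, hsx, mul_smul])
  have hI : ∀ (P Q : Ideal R), P.map (algebraMap R S) ≤ Q.map (algebraMap R S) →
      ∃ s ∈ M, ∀ a ∈ P, s * a ∈ Q := by
    intro P Q hPQ
    obtain ⟨s, hs, h⟩ := exists_uniform M P (IsNoetherian.noetherian _) Q (by
      intro a ha
      have h1 := hPQ (Ideal.mem_map_of_mem _ ha)
      rw [IsLocalization.algebraMap_mem_map_algebraMap_iff M S] at h1
      exact h1)
    exact ⟨s, hs, h⟩
  rw [hfun, Set.range_comp, ← Ideal.map_span] at hspan
  obtain ⟨s₃, hs₃, h₃⟩ := hI I (Ideal.span (Set.range (mins Ψ))) hspan.ge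
  obtain ⟨s₄, hs₄, h₄⟩ := hI (Ideal.span (Set.range (mins Ψ))) I hspan.le
  refine ⟨s₁ * s₂ * s₃ * s₄, M.mul_mem (M.mul_mem (M.mul_mem hs₁ hs₂) hs₃) hs₄, ⟨?_, ?_, ?_, ?_⟩⟩
  · intro x hx
    have := h₁ x hx
    rw [Submodule.mem_bot] at this
    rw [show s₁ * s₂ * s₃ * s₄ = (s₂ * s₃ * s₄) * s₁ by ring, mul_smul, this, smul_zero]
  · intro y hy
    obtain ⟨x, hx⟩ := h₂ y hy
    refine ⟨(s₁ * s₃ * s₄) • x, ?_⟩
    rw [map_smul, hx, smul_smul]
    congr 1
    ring
  · intro a ha
    rw [show s₁ * s₂ * s₃ * s₄ * a = (s₁ * s₂ * s₄) * (s₃ * a) by ring]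
    exact Ideal.mul_mem_left _ _ (h₃ a ha)
  · intro a ha
    rw [show s₁ * s₂ * s₃ * s₄ * a = (s₁ * s₂ * s₃) * (s₄ * a) by ring]
    exact Ideal.mul_mem_left _ _ (h₄ a ha)

/-- **Spreading out.** -/
theorem exists_matrix [IsNoetherianRing R] (M : Submonoid R) {S : Type v} [CommRing S] [Algebra R S]
    [IsLocalization M S] (I : Ideal R) (Φ : Matrix (Fin (r + 1)) (Fin r) S)
    (hex : HBExact Φ) (hspan : Ideal.span (Set.range (mins Φ)) = I.map (algebraMap R S)) :
    ∃ (Ψ : Matrix (Fin (r + 1)) (Fin r) R), ∃ s ∈ M, ExactAt s Ψ I := by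
  classical
  obtain ⟨b, hb⟩ := IsLocalization.exist_integer_multiples_of_finite M
    (fun ij : Fin (r + 1) × Fin r => Φ ij.1 ij.2)
  choose Ψ hΨ using hb
  have h1 : Matrix.map (Matrix.of fun i j => Ψ (i, j)) (algebraMap R S) = algebraMap R S b • Φ := by
    ext i j
    rw [Matrix.map_apply, Matrix.of_apply, hΨ (i, j), Algebra.smul_def, Matrix.smul_apply, smul_eq_mul]
  have hbu : IsUnit (algebraMap R S b) := IsLocalization.map_units S b
  refine ⟨Matrix.of fun i j => Ψ (i, j), exists_exactAt M I _ (S := S) ?_ ?_⟩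
  · rw [h1]
    exact HBExact_smul hbu hex
  · rw [h1, span_mins_smul hbu, hspan]

end loc

end K692.HBSpread
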