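import Groth.Agent.Divis.RelFlat
import Groth.Agent.Flat2D.NilpAlg
import Groth.Agent.FlatA.LocalCriterion
import Mathlib.RingTheory.Flat.Equalizer
import Mathlib.RingTheory.Artinian.Ring

/-!
# Lifting exactness along a nilpotent ideal

`C` a ring, `J` a nilpotent ideal.  For a map of flat `C`-modules which is injective modulo `J` with
`C/J`-flat cokernel modulo `J`, the map is injective with flat cokernel; similarly for
`L₂ → L₁ → L₀`.
-/

set_option autoImplicit false

universe u v w

open TensorProduct Function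

namespace K692.NilFlat

open Groth.Agent.Divis.RelFlat Groth.Agent.Flat2D.NilpAlg

section Modules

variable {C : Type u} [CommRing C] {J : Ideal C}

/-- Kernel of a surjection of flat modules. -/
theorem flat_of_flat_quotient {M : Type v} [AddCommGroup M] [Module C M] [Module.Flat C M]
    (K : Submodule C M) [Module.Flat C (M ⧸ K)] : Module.Flat C K := by
  rw [Module.Flat.iff_rTensor_injective']
  intro I
  have h1 := LinearMap.lTensor_injective_of_exact_of_flat K.mkQ K.mkQ_surjective K.subtype
    K.injective_subtype (LinearMap.exact_subtype_mkQ K) I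
  have h2 := Module.Flat.rTensor_preserves_injective_linearMap (M := M) I.subtype I.subtype_injective
  have h3 : (K.subtype.lTensor C) ∘ₗ (I.subtype.rTensor K) =
      (I.subtype.rTensor M) ∘ₗ (K.subtype.lTensor I) := by
    rw [LinearMap.lTensor_comp_rTensor, LinearMap.rTensor_comp_lTensor]
  have h4 : Function.Injective ((K.subtype.lTensor C) ∘ₗ (I.subtype.rTensor K)) := by
    rw [h3]
    exact h2.comp h1
  exact Function.Injective.of_comp (f := K.subtype.lTensor C) h4

variable {M : Type v} {M' : Type w} [AddCommGroup M] [Module C M] [AddCommGroup M'] [Module C M']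

/-- Flatness of the quotient from the condition `JM ∩ K ≤ JK` and flatness modulo `J`. -/
theorem flat_quotient (hJ : IsNilpotent J) [Module.Flat C M] (K : Submodule C M)
    (h : (J • ⊤ : Submodule C M) ⊓ K ≤ J • K)
    (hflat : Module.Flat (C ⧸ J) ((C ⧸ J) ⊗[C] (M ⧸ K))) : Module.Flat C (M ⧸ K) :=
  Groth.Agent.FlatA.LocalCriterion.flat_of_isNilpotent J hJ (injective_of_inf_le J K h) hflat

/-- **Two-term lifting.** -/
theorem injective_and_flat (hJ : IsNilpotent J) [Module.Flat C M] [Module.Flat C M']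
    (f : M →ₗ[C] M')
    (hinj : ∀ x : M, f x ∈ (J • ⊤ : Submodule C M') → x ∈ (J • ⊤ : Submodule C M))
    (hflat : Module.Flat (C ⧸ J) ((C ⧸ J) ⊗[C] (M' ⧸ LinearMap.range f))) :
    Injective f ∧ Module.Flat C (M' ⧸ LinearMap.range f) := by
  have h1 : (J • ⊤ : Submodule C M') ⊓ LinearMap.range f ≤ J • LinearMap.range f := by
    rintro _ ⟨hx, x, rfl⟩
    have h2 := Submodule.mem_map_of_mem (f := f) (hinj x hx)
    rwa [Submodule.map_smul'', Submodule.map_top] at h2
  have h2 : Module.Flat C (M' ⧸ LinearMap.range f) := flat_quotient hJ _ h1 hflat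
  refine ⟨?_, h2⟩
  have h3 : Module.Flat C (LinearMap.range f) := flat_of_flat_quotient _
  have h4 := ker_inf_smul_top J f.rangeRestrict f.surjective_rangeRestrict
  rw [LinearMap.ker_rangeRestrict] at h4
  have h5 : LinearMap.ker f ≤ ⊥ := by
    refine le_of_le_sup_smul J hJ _ _ ?_
    refine le_trans ?_ le_sup_right
    refine le_trans (le_inf le_rfl fun x hx => ?_) h4
    refine hinj x ?_
    rw [LinearMap.mem_ker.1 hx]
    exact zero_mem _
  exact LinearMap.ker_eq_bot.1 (le_bot_iff.1 h5)

variable {M'' : Type*} [AddCommGroup M''] [Module C M'']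

/-- **Three-term lifting.** `L₂ --f--> L₁ --g--> L₀` a complex of flat modules, such that the reduction
modulo `J` is exact `0 → L₂/J → L₁/J → L₀/J` with `C/J`-flat cokernel. -/
theorem exact_and_flat (hJ : IsNilpotent J) [Module.Flat C M] [Module.Flat C M'] [Module.Flat C M'']
    (f : M →ₗ[C] M') (g : M' →ₗ[C] M'') (hgf : g ∘ₗ f = 0)
    (hinj : ∀ x : M, f x ∈ (J • ⊤ : Submodule C M') → x ∈ (J • ⊤ : Submodule C M))
    (hex : ∀ y : M', g y ∈ (J • ⊤ : Submodule C M'') → ∃ x : M, y - f x ∈ (J • ⊤ : Submodule C M'))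
    (hflat : Module.Flat (C ⧸ J) ((C ⧸ J) ⊗[C] (M'' ⧸ LinearMap.range g))) :
    Injective f ∧ Exact f g ∧ Module.Flat C (M'' ⧸ LinearMap.range g) := by
  -- step 1: `L₀ / im g` flat: `J L₀ ∩ im g ≤ J im g`
  have h1 : (J • ⊤ : Submodule C M'') ⊓ LinearMap.range g ≤ J • LinearMap.range g := by
    rintro _ ⟨hy, y, rfl⟩
    obtain ⟨x, hx⟩ := hex y hy
    have h2 := Submodule.mem_map_of_mem (f := g) hx
    rw [Submodule.map_smul'', Submodule.map_top, map_sub] at h2
    have h3 : g (f x) = 0 := LinearMap.congr_fun hgf x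
    rwa [h3, sub_zero] at h2
  have h2 : Module.Flat C (M'' ⧸ LinearMap.range g) := flat_quotient hJ _ h1 hflat
  have h3 : Module.Flat C (LinearMap.range g) := flat_of_flat_quotient _
  have h4 : Module.Flat C (M' ⧸ LinearMap.ker g) :=
    Module.Flat.of_linearEquiv g.quotKerEquivRange
  have h5 := inf_le_of_flat_quotient J (LinearMap.ker g)
  have h6 : LinearMap.ker g ≤ LinearMap.range f := by
    refine le_of_le_sup_smul J hJ _ _ fun y hy => ?_
    obtain ⟨x, hx⟩ := hex y (by rw [LinearMap.mem_ker.1 hy]; exact zero_mem _)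
    rw [← sub_add_cancel y (f x), add_comm]
    refine Submodule.add_mem_sup ⟨x, rfl⟩ (h5 ⟨hx, ?_⟩)
    have h3 : g (f x) = 0 := LinearMap.congr_fun hgf x
    change y - f x ∈ LinearMap.ker g
    rw [LinearMap.mem_ker, map_sub, LinearMap.mem_ker.1 hy, h3, sub_zero]
  have h7 : LinearMap.ker g = LinearMap.range f :=
    le_antisymm h6 (LinearMap.range_le_ker_iff.2 hgf)
  have h8 : Module.Flat C (M' ⧸ LinearMap.range f) := h7 ▸ h4
  refine ⟨(injective_and_flat hJ f hinj inferInstance).1, LinearMap.exact_iff.2 h7, h2⟩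

end Modules

section Rings

variable {C : Type u} [CommRing C] {J : Ideal C} {A : Type v} [CommRing A] [Algebra C A]

/-- Generators lift along a nilpotent ideal when the quotient is flat. -/
theorem eq_span_of_flat_quotient (hJ : IsNilpotent J) (I : Ideal A) [hI : Module.Flat C (A ⧸ I)]
    {ι : Type*} (a : ι → A) (ha : ∀ i, a i ∈ I)
    (h : I ≤ Ideal.span (Set.range a) ⊔ J.map (algebraMap C A)) : I = Ideal.span (Set.range a) := by
  have hle : Ideal.span (Set.range a) ≤ I := by
    rw [Ideal.span_le]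
    rintro _ ⟨i, rfl⟩
    exact ha i
  refine le_antisymm ?_ hle
  have hnil : IsNilpotent (J.map (algebraMap C A)) := by
    obtain ⟨n, hn⟩ := hJ
    refine ⟨n, ?_⟩
    rw [← Ideal.map_pow, hn]
    exact Ideal.map_bot
  refine le_of_le_sup_smul _ hnil _ _ fun x hx => ?_
  obtain ⟨y, hy, z, hz, rfl⟩ := Submodule.mem_sup.1 (h hx)
  refine Submodule.add_mem_sup hy ?_
  have hzI : z ∈ I := by
    have := I.sub_mem hx (hle hy)
    simpa using this
  have := map_inf_le_of_flat J I hI ⟨hz, hzI⟩
  exact this

end Rings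

end K692.NilFlat
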