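import Groth.Agent.DefT.K692.NilFlat
import Mathlib.RingTheory.Regular.RegularSequence
import Mathlib.RingTheory.LocalRing.ResidueField.Defs

/-!
# Lifting regular sequences from the closed fibre over a local ring with nilpotent maximal ideal

`C` local with nilpotent maximal ideal `m`, `A` a `C`-algebra, `M` an `A`-module flat over `C`: a sequence
which is (weakly) regular on `M/mM` is (weakly) regular on `M` with `C`-flat quotient.
-/

set_option autoImplicit false

universe u v w

open TensorProduct Function IsLocalRing
open scoped Pointwise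

namespace K692.NilReg

open K692.NilFlat

theorem flat_over_field (C : Type u) [CommRing C] (m : Ideal C) [hm : m.IsMaximal] (N : Type w)
    [AddCommGroup N] [Module (C ⧸ m) N] : Module.Flat (C ⧸ m) N := by
  let _ := Ideal.Quotient.field m
  infer_instance

section

variable {C : Type u} [CommRing C] [IsLocalRing C] {A : Type v} [CommRing A] [Algebra C A]

/-- `J • ⊤` over the base and over the algebra agree. -/
theorem mem_map_smul_top_iff {C : Type u} [CommRing C] {A : Type v} [CommRing A] [Algebra C A]
    (J : Ideal C) (M : Type w) [AddCommGroup M] [Module A M] [Module C M]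
    [IsScalarTower C A M] (x : M) :
    x ∈ ((J.map (algebraMap C A)) • ⊤ : Submodule A M) ↔ x ∈ (J • ⊤ : Submodule C M) := by
  constructor
  · intro h
    induction h using Submodule.smul_induction_on' with
    | smul a ha y _ =>
      induction ha using Submodule.span_induction generalizing y with
      | mem z hz =>
        obtain ⟨c, hc, rfl⟩ := hz
        rw [algebraMap_smul]
        exact Submodule.smul_mem_smul hc trivial
      | zero => rw [zero_smul]; exact zero_mem _
      | add a b _ _ ha hb => rw [add_smul]; exact add_mem (ha y trivial) (hb y trivial)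
      | smul a b _ hb =>
        rw [smul_eq_mul, mul_comm, mul_smul]
        exact hb (a • y) trivial
    | add a _ b _ ha hb => exact add_mem ha hb
  · intro h
    induction h using Submodule.smul_induction_on' with
    | smul a ha y _ =>
      rw [← algebraMap_smul A a y]
      exact Submodule.smul_mem_smul (Ideal.mem_map_of_mem _ ha) trivial
    | add a _ b _ ha hb => exact add_mem ha hb

/-- `(M / rM) / aM ≃ (M / aM) / r(M/aM)`. -/
noncomputable def quotEquiv (a : Ideal A) (r : A) (M : Type w) [AddCommGroup M] [Module A M] :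
    (QuotSMulTop r M ⧸ (a • ⊤ : Submodule A (QuotSMulTop r M))) ≃ₗ[A]
      QuotSMulTop r (M ⧸ (a • ⊤ : Submodule A M)) :=
  Submodule.quotEquivOfEq _ _ (by
    rw [Submodule.map_smul'', Submodule.map_top, Submodule.range_mkQ]) ≪≫ₗ
  (Submodule.quotientQuotientEquivQuotientSup (r • ⊤) (a • ⊤ : Submodule A M)) ≪≫ₗ
  Submodule.quotEquivOfEq _ _ (sup_comm _ _) ≪≫ₗ
  (Submodule.quotientQuotientEquivQuotientSup (a • ⊤ : Submodule A M) (r • ⊤)).symm ≪≫ₗ
  Submodule.quotEquivOfEq _ _ (by
    rw [Submodule.map_pointwise_smul, Submodule.map_top, Submodule.range_mkQ])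

theorem isWeaklyRegular_and_flat (hnil : IsNilpotent (maximalIdeal C)) (rs : List A) :
    ∀ (M : Type w) [AddCommGroup M] [Module A M] [Module C M] [IsScalarTower C A M] [Module.Flat C M],
      RingTheory.Sequence.IsWeaklyRegular
        (M ⧸ (((maximalIdeal C).map (algebraMap C A)) • ⊤ : Submodule A M)) rs →
      RingTheory.Sequence.IsWeaklyRegular M rs ∧
        Module.Flat C (M ⧸ (Ideal.ofList rs • ⊤ : Submodule A M)) := by
  induction rs with
  | nil =>
    intro M _ _ _ _ _ _
    refine ⟨RingTheory.Sequence.IsWeaklyRegular.nil A M, ?_⟩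
    have e : (M ⧸ (Ideal.ofList ([] : List A) • ⊤ : Submodule A M)) ≃ₗ[A] M :=
      Submodule.quotEquivOfEqBot _ (by rw [Ideal.ofList_nil, Submodule.bot_smul])
    exact Module.Flat.of_linearEquiv (e.restrictScalars C)
  | cons r rs ih =>
    intro M _ _ _ _ _ h
    rw [RingTheory.Sequence.isWeaklyRegular_cons_iff] at h
    obtain ⟨h1, h2⟩ := h
    rw [isSMulRegular_quotient_iff_mem_of_smul_mem] at h1
    let f : M →ₗ[C] M := (LinearMap.lsmul A M r).restrictScalars C
    have hf : ∀ x, f x = r • x := fun x => rfl
    have h3 := injective_and_flat hnil f (fun x hx => by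
      rw [← mem_map_smul_top_iff (A := A)] at hx ⊢
      exact h1 x hx) (flat_over_field C _ _)
    have h4 : Module.Flat C (QuotSMulTop r M) := by
      have e : (M ⧸ LinearMap.range f) ≃ₗ[C] QuotSMulTop r M :=
        Submodule.quotEquivOfEq (LinearMap.range f)
            ((r • (⊤ : Submodule A M)).restrictScalars C) (by
          ext x
          constructor
          · rintro ⟨y, rfl⟩
            exact Submodule.smul_mem_pointwise_smul y r ⊤ trivial
          · intro hx
            obtain ⟨y, -, rfl⟩ := hx
            exact ⟨y, rfl⟩)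
      have := h3.2
      exact Module.Flat.of_linearEquiv e.symm
    have h5 := ih (QuotSMulTop r M) (((quotEquiv _ r M).isWeaklyRegular_congr rs).2 h2)
    refine ⟨(RingTheory.Sequence.isWeaklyRegular_cons_iff M r rs).2 ⟨h3.1, h5.1⟩, ?_⟩
    have h6 := h5.2
    exact Module.Flat.of_linearEquiv
      ((Submodule.quotOfListConsSMulTopEquivQuotSMulTopInner M r rs).restrictScalars C)

/-- **Ring version.** -/
theorem isWeaklyRegular_and_flat_ring (hnil : IsNilpotent (maximalIdeal C)) [Module.Flat C A] (rs : List A)
    (h : RingTheory.Sequence.IsWeaklyRegular (A ⧸ (maximalIdeal C).map (algebraMap C A))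
      (rs.map (Ideal.Quotient.mk ((maximalIdeal C).map (algebraMap C A))))) :
    RingTheory.Sequence.IsWeaklyRegular A rs ∧ Module.Flat C (A ⧸ Ideal.ofList rs) := by
  have h1 : RingTheory.Sequence.IsWeaklyRegular
      (A ⧸ (((maximalIdeal C).map (algebraMap C A)) • ⊤ : Submodule A A)) rs := by
    have h2 : RingTheory.Sequence.IsWeaklyRegular (A ⧸ (maximalIdeal C).map (algebraMap C A)) rs :=
      (RingTheory.Sequence.isWeaklyRegular_map_algebraMap_iff
        (A ⧸ (maximalIdeal C).map (algebraMap C A)) _ rs).1 h
    have e : (A ⧸ (((maximalIdeal C).map (algebraMap C A)) • ⊤ : Submodule A A)) ≃ₗ[A]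
        (A ⧸ (maximalIdeal C).map (algebraMap C A)) :=
      Submodule.quotEquivOfEq _ _ (by simp)
    exact (e.isWeaklyRegular_congr rs).2 h2
  have h3 := isWeaklyRegular_and_flat hnil rs A h1
  refine ⟨h3.1, ?_⟩
  have e : (A ⧸ (Ideal.ofList rs • ⊤ : Submodule A A)) ≃ₗ[A] (A ⧸ Ideal.ofList rs) :=
    Submodule.quotEquivOfEq _ _ (by simp)
  have := h3.2
  exact Module.Flat.of_linearEquiv (e.symm.restrictScalars C)

end

end K692.NilReg
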