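import Mathlib.RingTheory.Flat.TorsionFree
import Mathlib.RingTheory.Polynomial.Ideal
import Mathlib.Algebra.Polynomial.Div
import Mathlib.RingTheory.IntegralClosure.IsIntegralClosure.Basic
import Mathlib.RingTheory.RingHom.Finite
import Mathlib.RingTheory.RingHom.Flat
import Mathlib.RingTheory.PrincipalIdealDomain
import Mathlib.FieldTheory.IsAlgClosed.Basic

/-!
# Pulling apart a punctual ideal in the plane

`A ≃ k[y][x]`, `𝔞` an ideal with radical `(x, y)` not containing `y`.  `𝔞 = (f) + y 𝔟` with `𝔟 = (𝔞 : y)` and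
`f` monic in `x`, and the family is `(f) + (y - t) 𝔟`.
-/

set_option autoImplicit false

universe u v

open Polynomial

namespace K692.PullApart

section monic

variable {R : Type*} [CommRing R]

theorem degree_C_mul_le' (a : R) (p : R[X]) : (C a * p).degree ≤ p.degree :=
  (degree_mul_le _ _).trans (add_le_of_nonpos_left degree_C_le)

variable [Nontrivial R]

theorem exists_monic_aux (t : R) (𝔠 : Ideal R[X]) (m : ℕ)
    (h1 : (X : R[X]) ^ m ∈ 𝔠 ⊔ Ideal.span {C t}) (s : ℕ) :
    ∃ F : R[X], F ∈ 𝔠 ⊔ Ideal.span {C t ^ (s + 1)} ∧ F.Monic ∧ F.natDegree = m ∧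
      F - X ^ m ∈ Ideal.span {C t} := by
  induction s with
  | zero =>
    refine ⟨X ^ m, ?_, monic_X_pow m, natDegree_X_pow m, ?_⟩
    · rwa [zero_add, pow_one]
    · rw [sub_self]
      exact zero_mem _
  | succ s ih =>
    obtain ⟨F, hF, hmon, hdeg, hsub⟩ := ih
    obtain ⟨a, ha, b, hb, hab⟩ := Submodule.mem_sup.1 hF
    obtain ⟨h, rfl⟩ := Ideal.mem_span_singleton'.1 hb
    set r := h %ₘ F with hr
    set q := h /ₘ F with hq
    have hrq : r + F * q = h := modByMonic_add_div h F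
    have hlt : (C t ^ (s + 1) * r).degree < F.degree := by
      refine lt_of_le_of_lt ?_ (degree_modByMonic_lt h hmon)
      rw [← C_pow]
      exact degree_C_mul_le' _ _
    refine ⟨F - C t ^ (s + 1) * r, ?_, hmon.sub_of_left hlt, ?_, ?_⟩
    · have h2 : F - C t ^ (s + 1) * r =
          (1 + C t ^ (s + 1) * q) * a + (C t ^ s * q * h) * C t ^ (s + 1 + 1) := by
        have h3 : r = h - F * q := by rw [← hrq]; ring
        rw [h3, ← hab]
        ring
      rw [h2]
      exact Submodule.add_mem_sup (Ideal.mul_mem_left _ _ ha)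
        (Ideal.mul_mem_left _ _ (Ideal.mem_span_singleton_self _))
    · rw [natDegree_eq_of_degree_eq (degree_sub_eq_left_of_degree_lt hlt), hdeg]
    · have h2 : F - C t ^ (s + 1) * r - X ^ m = (F - X ^ m) - (C t ^ s * r) * C t := by ring
      rw [h2]
      exact Ideal.sub_mem _ hsub (Ideal.mul_mem_left _ _ (Ideal.mem_span_singleton_self _))

omit [Nontrivial R] in
theorem mem_span_of_C_mul_mem [IsDomain R] {F : R[X]} (hF : F.Monic) {p : R} (hp : p ≠ 0) {G : R[X]}
    (h : C p * G ∈ Ideal.span {F}) : G ∈ Ideal.span {F} := by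
  rw [Ideal.mem_span_singleton] at h ⊢
  set r := G %ₘ F with hr
  set q := G /ₘ F with hq
  have hrq : r + F * q = G := modByMonic_add_div G F
  have h1 : F ∣ C p * r := by
    have h2 : C p * r = C p * G - F * (C p * q) := by rw [← hrq]; ring
    rw [h2]
    exact dvd_sub h (dvd_mul_right _ _)
  have h3 : C p * r = 0 := by
    refine eq_zero_of_dvd_of_degree_lt h1 ?_
    exact lt_of_le_of_lt (degree_C_mul_le' _ _) (degree_modByMonic_lt G hF)
  rcases mul_eq_zero.1 h3 with h4 | h4
  · exact absurd (C_eq_zero.1 h4) hp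
  · rw [← hrq, h4, zero_add]
    exact dvd_mul_right _ _

end monic

section main

variable {k : Type u} [Field k] {A : Type v} [CommRing A] [Algebra k A] (e : A ≃ₐ[k] k[X][X])

/-- the first coordinate -/
noncomputable def cx : A := e.symm X

/-- the second coordinate -/
noncomputable def cy : A := e.symm (C X)

theorem e_aeval (p : k[X]) : e (aeval (cy e) p) = C p := by
  have h1 : e (aeval (cy e) p) = aeval (e (cy e)) p := (aeval_algHom_apply (e : A →ₐ[k] k[X][X]) _ _).symm
  rw [h1, cy, AlgEquiv.apply_symm_apply]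
  have h2 : aeval (CAlgHom (R := k) (A := k[X]) X) p = CAlgHom (aeval X p) := aeval_algHom_apply _ _ _
  rw [aeval_X_left_apply] at h2
  exact h2

/-- restriction to the line `y = 0` -/
noncomputable def rho : A →+* k[X] := (mapRingHom (evalRingHom (0 : k))).comp (e : A →+* k[X][X])

theorem rho_surjective : Function.Surjective (rho e) := by
  intro p
  refine ⟨e.symm (p.map C), ?_⟩
  change mapRingHom (evalRingHom (0 : k)) (e (e.symm (p.map C))) = p
  rw [AlgEquiv.apply_symm_apply, coe_mapRingHom, Polynomial.map_map]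
  have : (evalRingHom (0 : k)).comp C = RingHom.id k := by
    ext a
    simp
  rw [this, Polynomial.map_id]

theorem rho_cx : rho e (cx e) = X := by
  change mapRingHom (evalRingHom (0 : k)) (e (e.symm X)) = X
  rw [AlgEquiv.apply_symm_apply, coe_mapRingHom, Polynomial.map_X]

theorem rho_eq_zero_iff (a : A) : rho e a = 0 ↔ ∃ b, a = cy e * b := by
  have h1 : rho e a = 0 ↔ e a ∈ RingHom.ker (mapRingHom (evalRingHom (0 : k))) := Iff.rfl
  rw [h1, Polynomial.ker_mapRingHom, ker_evalRingHom, Ideal.map_span, Set.image_singleton, C_0, sub_zero,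
    Ideal.mem_span_singleton']
  constructor
  · rintro ⟨b, hb⟩
    refine ⟨e.symm b, ?_⟩
    apply e.injective
    rw [map_mul, AlgEquiv.apply_symm_apply, cy, AlgEquiv.apply_symm_apply, ← hb, mul_comm]
  · rintro ⟨b, rfl⟩
    refine ⟨e b, ?_⟩
    rw [map_mul, cy, AlgEquiv.apply_symm_apply, mul_comm]

variable (𝔞 : Ideal A) (hrad : 𝔞.radical = Ideal.span {cx e, cy e})

include hrad

theorem le_span : 𝔞 ≤ Ideal.span {cx e, cy e} := by
  rw [← hrad]
  exact Ideal.le_radical

theorem exists_pow_cx : ∃ N, cx e ^ N ∈ 𝔞 := by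
  have : cx e ∈ 𝔞.radical := by
    rw [hrad]
    exact Ideal.subset_span (by simp)
  exact this

theorem exists_pow_cy : ∃ N, cy e ^ N ∈ 𝔞 := by
  have : cy e ∈ 𝔞.radical := by
    rw [hrad]
    exact Ideal.subset_span (by simp)
  exact this

/-- The monic equation. -/
theorem exists_monic : ∃ f ∈ 𝔞, (e f).Monic ∧ 0 < (e f).natDegree ∧
    ∀ g ∈ 𝔞, ∃ h g', g = h * f + cy e * g' := by
  obtain ⟨N, hN⟩ := exists_pow_cx e 𝔞 hrad
  obtain ⟨M, hM⟩ := exists_pow_cy e 𝔞 hrad
  obtain ⟨m, hm⟩ : ∃ m : ℕ, 𝔞.map (rho e) = Ideal.span {(X : k[X]) ^ m} := by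
    obtain ⟨g, hg⟩ := (IsPrincipalIdealRing.principal (𝔞.map (rho e))).principal
    have h1 : g ∣ X ^ N := by
      rw [← Ideal.mem_span_singleton]
      have h2 := Ideal.mem_map_of_mem (rho e) hN
      rw [map_pow, rho_cx, hg] at h2
      exact h2
    obtain ⟨m, -, hm⟩ := (dvd_prime_pow prime_X N).1 h1
    refine ⟨m, ?_⟩
    rw [hg]
    exact Ideal.span_singleton_eq_span_singleton.2 hm
  have hm0 : 0 < m := by
    rcases Nat.eq_zero_or_pos m with rfl | h
    · exfalso
      rw [pow_zero, Ideal.span_singleton_one] at hm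
      have h1 : 𝔞.map (rho e) ≤ Ideal.span {(X : k[X])} := by
        rw [Ideal.map_le_iff_le_comap]
        refine (le_span e 𝔞 hrad).trans ?_
        rw [Ideal.span_le]
        intro a ha
        rcases ha with rfl | ha
        · change rho e (cx e) ∈ Ideal.span {(X : k[X])}
          rw [rho_cx]
          exact Ideal.mem_span_singleton_self _
        · rw [Set.mem_singleton_iff.1 ha]
          change rho e (cy e) ∈ Ideal.span {(X : k[X])}
          rw [(rho_eq_zero_iff e (cy e)).2 ⟨1, (mul_one _).symm⟩]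
          exact zero_mem _
      rw [hm] at h1
      have h2 : (1 : k[X]) ∈ Ideal.span {(X : k[X])} := h1 trivial
      rw [Ideal.mem_span_singleton] at h2
      exact prime_X.not_isUnit (isUnit_of_dvd_one h2)
    · exact h
  have hXm : (X : k[X]) ^ m ∈ 𝔞.map (rho e) := by
    rw [hm]
    exact Ideal.mem_span_singleton_self _
  obtain ⟨g, hg, hgX⟩ := (Ideal.mem_map_iff_of_surjective _ (rho_surjective e)).1 hXm
  have h1 : (X : k[X][X]) ^ m ∈ 𝔞.map (e : A →+* k[X][X]) ⊔ Ideal.span {C X} := by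
    have h2 : rho e (cx e ^ m - g) = 0 := by
      rw [map_sub, map_pow, rho_cx, hgX, sub_self]
    obtain ⟨b, hb⟩ := (rho_eq_zero_iff e _).1 h2
    have h3 : (X : k[X][X]) ^ m = e g + e b * C X := by
      have h4 := congrArg e hb
      rw [map_sub, map_pow, map_mul, cx, cy, AlgEquiv.apply_symm_apply, AlgEquiv.apply_symm_apply,
        sub_eq_iff_eq_add] at h4
      rw [h4]
      ring
    rw [h3]
    exact Submodule.add_mem_sup (Ideal.mem_map_of_mem _ hg)
      (Ideal.mul_mem_left _ _ (Ideal.mem_span_singleton_self _))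
  obtain ⟨F, hF, hmon, hdeg, hsub⟩ := exists_monic_aux (X : k[X]) _ m h1 M
  have hF' : F ∈ 𝔞.map (e : A →+* k[X][X]) := by
    have h2 : Ideal.span {(C X : k[X][X]) ^ (M + 1)} ≤ 𝔞.map (e : A →+* k[X][X]) := by
      rw [Ideal.span_singleton_le_iff_mem, pow_succ]
      refine Ideal.mul_mem_right _ _ ?_
      have h3 := Ideal.mem_map_of_mem (e : A →+* k[X][X]) hM
      change e (cy e ^ M) ∈ _ at h3
      rw [map_pow, cy, AlgEquiv.apply_symm_apply] at h3
      exact h3
    rwa [sup_eq_left.2 h2] at hF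
  obtain ⟨f, hf, hfF⟩ := (Ideal.mem_map_iff_of_surjective (e : A →+* k[X][X]) e.surjective).1 hF'
  replace hfF : e f = F := hfF
  refine ⟨f, hf, hfF ▸ hmon, by rw [hfF, hdeg]; exact hm0, fun g hg => ?_⟩
  have hrf : rho e f = X ^ m := by
    have h2 : rho e (f - cx e ^ m) = 0 := by
      have h3 : e (f - cx e ^ m) ∈ RingHom.ker (mapRingHom (evalRingHom (0 : k))) := by
        rw [Polynomial.ker_mapRingHom, ker_evalRingHom, Ideal.map_span, Set.image_singleton, C_0, sub_zero,
          map_sub, map_pow, hfF, cx, AlgEquiv.apply_symm_apply]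
        exact hsub
      exact h3
    rwa [map_sub, map_pow, rho_cx, sub_eq_zero] at h2
  have h2 := Ideal.mem_map_of_mem (rho e) hg
  rw [hm, Ideal.mem_span_singleton'] at h2
  obtain ⟨h₀, hh₀⟩ := h2
  obtain ⟨h, rfl⟩ := rho_surjective e h₀
  obtain ⟨b, hb⟩ := (rho_eq_zero_iff e (g - h * f)).1 (by rw [map_sub, map_mul, hrf, hh₀, sub_self])
  refine ⟨h, b, ?_⟩
  rw [← hb]
  ring

end main

section family

variable {k : Type u} [Field k] {A : Type v} [CommRing A] [Algebra k A] (e : A ≃ₐ[k] k[X][X])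

/-- The family of ideals `(f) + (t - y) 𝔟`. -/
noncomputable def fam (y f : A) (𝔟 : Ideal A) : Ideal A[X] :=
  Ideal.span {C f} ⊔ Ideal.span {X - C y} * 𝔟.map C

theorem map_fam (y f : A) (𝔟 : Ideal A) (c : A) :
    (fam y f 𝔟).map (evalRingHom c) = Ideal.span {f} ⊔ Ideal.span {c - y} * 𝔟 := by
  have h1 : (evalRingHom c).comp C = RingHom.id A := by
    ext a
    simp
  rw [fam, Ideal.map_sup, Ideal.map_mul, Ideal.map_span, Ideal.map_span, Ideal.map_map, h1, Ideal.map_id,
    Set.image_singleton, Set.image_singleton]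
  simp

theorem mem_fam_iff {y f : A} {𝔟 : Ideal A} {g : A[X]} :
    g ∈ fam y f 𝔟 ↔ ∃ α β : A[X], β ∈ 𝔟.map C ∧ g = C f * α + (X - C y) * β := by
  rw [fam, Submodule.mem_sup]
  constructor
  · rintro ⟨u, hu, v, hv, rfl⟩
    obtain ⟨α, rfl⟩ := Ideal.mem_span_singleton'.1 hu
    obtain ⟨β, hβ, rfl⟩ := Ideal.mem_span_singleton_mul.1 hv
    exact ⟨α, β, hβ, by rw [mul_comm]⟩
  · rintro ⟨α, β, hβ, rfl⟩
    exact ⟨_, Ideal.mul_mem_right _ _ (Ideal.mem_span_singleton_self _), _,
      Ideal.mem_span_singleton_mul.2 ⟨β, hβ, rfl⟩, rfl⟩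

theorem mem_map_C_of_mul_mem (𝔟 : Ideal A) {p : k[X]} (hp : p ≠ 0) {δ : A[X]}
    (h : p.map (algebraMap k A) * δ ∈ 𝔟.map C) : δ ∈ 𝔟.map C := by
  have hker : ∀ g : A[X], g ∈ 𝔟.map C ↔ g.map (Ideal.Quotient.mk 𝔟) = 0 := by
    intro g
    have h1 := Polynomial.ker_mapRingHom (Ideal.Quotient.mk 𝔟)
    rw [Ideal.mk_ker] at h1
    rw [← h1]
    rfl
  rw [hker] at h ⊢
  rw [Polynomial.map_mul, Polynomial.map_map] at h
  set φ : k →+* A ⧸ 𝔟 := (Ideal.Quotient.mk 𝔟).comp (algebraMap k A) with hφ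
  have hmon : (p * C p.leadingCoeff⁻¹).Monic := monic_mul_leadingCoeff_inv hp
  have hreg := (hmon.map φ).isRegular.left
  apply hreg
  change (p * C p.leadingCoeff⁻¹).map φ * _ = (p * C p.leadingCoeff⁻¹).map φ * 0
  rw [Polynomial.map_mul, mul_zero, mul_comm (p.map φ), mul_assoc, h, mul_zero]

theorem exists_eq_of_eval_eq_zero {y : A} {g : A[X]} (h : g.eval y = 0) :
    ∃ δ, g = (X - C y) * δ := by
  have h1 : g ∈ RingHom.ker (evalRingHom y) := h
  rw [ker_evalRingHom, Ideal.mem_span_singleton'] at h1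
  obtain ⟨δ, hδ⟩ := h1
  exact ⟨δ, by rw [← hδ, mul_comm]⟩

/-- torsion-freeness -/
theorem mem_fam_of_mul_mem [IsDomain A] {f : A} (hf : (e f).Monic) {𝔟 : Ideal A} (hfb : f ∈ 𝔟)
    {p : k[X]} (hp : p ≠ 0) {g : A[X]} (h : p.map (algebraMap k A) * g ∈ fam (cy e) f 𝔟) :
    g ∈ fam (cy e) f 𝔟 := by
  have hf0 : f ≠ 0 := by
    rintro rfl
    rw [map_zero] at hf
    exact hf.ne_zero rfl
  obtain ⟨α, β, hβ, hαβ⟩ := mem_fam_iff.1 h
  have hev : (p.map (algebraMap k A)).eval (cy e) = aeval (cy e) p := by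
    rw [eval_map_algebraMap]
  have h1 : aeval (cy e) p * g.eval (cy e) = f * α.eval (cy e) := by
    have := congrArg (eval (cy e)) hαβ
    rw [eval_mul, hev, eval_add, eval_mul, eval_mul, eval_sub, eval_X, eval_C, eval_C, sub_self,
      zero_mul, add_zero] at this
    exact this
  have h2 : e (g.eval (cy e)) ∈ Ideal.span {e f} := by
    refine mem_span_of_C_mul_mem hf hp ?_
    rw [← e_aeval e p, ← map_mul, h1, map_mul]
    exact Ideal.mul_mem_right _ _ (Ideal.mem_span_singleton_self _)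
  obtain ⟨γ', hγ'⟩ := Ideal.mem_span_singleton'.1 h2
  set γ := e.symm γ' with hγdef
  have hγ : g.eval (cy e) = γ * f := by
    apply e.injective
    rw [map_mul, hγdef, AlgEquiv.apply_symm_apply, hγ']
  obtain ⟨δ, hδ⟩ := exists_eq_of_eval_eq_zero (y := cy e) (g := g - C (γ * f)) (by
    rw [eval_sub, eval_C, hγ, sub_self])
  have h3 : C f * (p.map (algebraMap k A) * C γ - α) =
      (X - C (cy e)) * (β - p.map (algebraMap k A) * δ) := by
    have h4 : g = C (γ * f) + (X - C (cy e)) * δ := by rw [← hδ]; ring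
    rw [h4] at hαβ
    rw [C_mul] at hαβ
    linear_combination hαβ
  obtain ⟨ε, hε⟩ := exists_eq_of_eval_eq_zero (y := cy e) (g := p.map (algebraMap k A) * C γ - α) (by
    have := congrArg (eval (cy e)) h3
    rw [eval_mul, eval_mul, eval_C, eval_sub (p := X), eval_X, eval_C, sub_self, zero_mul] at this
    exact (mul_eq_zero.1 this).resolve_left hf0)
  have hreg : IsLeftRegular (X - C (cy e) : A[X]) := (monic_X_sub_C (cy e)).isRegular.left
  have h5 : p.map (algebraMap k A) * δ = β - C f * ε := by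
    have h6 : (X - C (cy e)) * (C f * ε) = (X - C (cy e)) * (β - p.map (algebraMap k A) * δ) := by
      rw [← h3, hε]
      ring
    have h7 := hreg h6
    rw [h7]
    ring
  have h8 : δ ∈ 𝔟.map C := by
    refine mem_map_C_of_mul_mem 𝔟 hp ?_
    rw [h5]
    exact Ideal.sub_mem _ hβ (Ideal.mul_mem_right _ _ (Ideal.mem_map_of_mem C hfb))
  rw [mem_fam_iff]
  refine ⟨C γ, δ, h8, ?_⟩
  rw [← hδ, C_mul]
  ring

/-- the structure map of the family -/
noncomputable abbrev str (𝔞' : Ideal A[X]) : k[X] →+* A[X] ⧸ 𝔞' :=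
  (Ideal.Quotient.mk 𝔞').comp (mapRingHom (algebraMap k A))

theorem flat_fam [IsDomain A] {f : A} (hf : (e f).Monic) {𝔟 : Ideal A} (hfb : f ∈ 𝔟) :
    (str (k := k) (fam (cy e) f 𝔟)).Flat := by
  let _ : Algebra k[X] (A[X] ⧸ fam (cy e) f 𝔟) := (str (k := k) (fam (cy e) f 𝔟)).toAlgebra
  change Module.Flat k[X] (A[X] ⧸ fam (cy e) f 𝔟)
  rw [IsDedekindDomain.flat_iff_torsion_eq_bot, eq_bot_iff]
  intro z hz
  obtain ⟨g, rfl⟩ := Ideal.Quotient.mk_surjective z
  obtain ⟨⟨p, hp⟩, hpz⟩ := hz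
  have hp0 : p ≠ 0 := nonZeroDivisors.ne_zero hp
  rw [Submodule.mem_bot, Ideal.Quotient.eq_zero_iff_mem]
  refine mem_fam_of_mul_mem e hf hfb hp0 ?_
  rw [← Ideal.Quotient.eq_zero_iff_mem, map_mul]
  have h1 : p • (Ideal.Quotient.mk (fam (cy e) f 𝔟) g) = 0 := hpz
  rw [Algebra.smul_def] at h1
  exact h1

theorem finite_fam {f : A} (hf : (e f).Monic) {𝔟 : Ideal A} (N : ℕ) (hN : cy e ^ N ∈ 𝔟) :
    (str (k := k) (fam (cy e) f 𝔟)).Finite := by
  set 𝔞' := fam (cy e) f 𝔟 with h𝔞'
  let _ : Algebra k[X] (A[X] ⧸ 𝔞') := (str (k := k) 𝔞').toAlgebra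
  have halg : ∀ p : k[X], algebraMap k[X] (A[X] ⧸ 𝔞') p =
    Ideal.Quotient.mk 𝔞' (p.map (algebraMap k A)) := fun p => rfl
  let mk := Ideal.Quotient.mk 𝔞'
  -- `y` is integral
  have hX : IsIntegral k[X] (mk X) := by
    have : mk X = algebraMap k[X] (A[X] ⧸ 𝔞') X := by
      rw [halg, Polynomial.map_X]
    rw [this]
    exact isIntegral_algebraMap
  have hk : ∀ a : k, IsIntegral k[X] (mk (C (algebraMap k A a))) := by
    intro a
    have : mk (C (algebraMap k A a)) = algebraMap k[X] (A[X] ⧸ 𝔞') (C a) := by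
      rw [halg, Polynomial.map_C]
    rw [this]
    exact isIntegral_algebraMap
  have hy : IsIntegral k[X] (mk (C (cy e))) := by
    refine ⟨(X - C X) * X ^ N, (monic_X_sub_C _).mul (monic_X_pow N), ?_⟩
    rw [eval₂_mul, eval₂_sub, eval₂_X, eval₂_C, eval₂_X_pow, halg, Polynomial.map_X]
    change (mk (C (cy e)) - mk X) * mk (C (cy e)) ^ N = 0
    rw [← map_sub, ← map_pow, ← map_mul]
    rw [Ideal.Quotient.eq_zero_iff_mem, h𝔞', mem_fam_iff]
    refine ⟨0, - C (cy e) ^ N, ?_, by ring⟩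
    rw [← C_pow]
    exact (Ideal.neg_mem_iff _).2 (Ideal.mem_map_of_mem C hN)
  have hyp : ∀ p : k[X], IsIntegral k[X] (mk (C (aeval (cy e) p))) := by
    intro p
    induction p using Polynomial.induction_on' with
    | add p q hp hq => rw [map_add, C_add, map_add]; exact hp.add hq
    | monomial n a =>
      rw [← C_mul_X_pow_eq_monomial, map_mul, map_pow, aeval_X, aeval_C, C_mul, C_pow, map_mul, map_pow]
      exact (hk a).mul (hy.pow n)
  have hx : IsIntegral k[X] (mk (C (cx e))) := by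
    let S₁ := integralClosure k[X] (A[X] ⧸ 𝔞')
    let j : k[X] →+* S₁ := ((mk.comp C).comp (aeval (cy e) : k[X] →ₐ[k] A).toRingHom).codRestrict S₁
      (fun p => hyp p)
    have hj : ∀ G : k[X][X], mk (C (e.symm G)) =
        eval₂ ((algebraMap S₁ (A[X] ⧸ 𝔞')).comp j) (mk (C (cx e))) G := by
      intro G
      have h1 : ((mk.comp C).comp (e.symm : k[X][X] →+* A)) =
          eval₂RingHom ((algebraMap S₁ (A[X] ⧸ 𝔞')).comp j) (mk (C (cx e))) := by
        refine Polynomial.ringHom_ext (fun p => ?_) ?_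
        · rw [coe_eval₂RingHom, eval₂_C]
          change mk (C (e.symm (C p))) = mk (C (aeval (cy e) p))
          rw [← e_aeval e p, AlgEquiv.symm_apply_apply]
        · rw [coe_eval₂RingHom, eval₂_X]
          rfl
      exact RingHom.congr_fun h1 G
    have h2 : IsIntegral S₁ (mk (C (cx e))) := by
      refine ⟨(e f).map j, hf.map j, ?_⟩
      rw [eval₂_map, ← hj, AlgEquiv.symm_apply_apply]
      rw [Ideal.Quotient.eq_zero_iff_mem, h𝔞', mem_fam_iff]
      exact ⟨1, 0, zero_mem _, by ring⟩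
    exact isIntegral_trans _ h2
  have hA : ∀ a : A, IsIntegral k[X] (mk (C a)) := by
    intro a
    obtain ⟨G, rfl⟩ := e.symm.surjective a
    induction G using Polynomial.induction_on' with
    | add p q hp hq => rw [map_add, C_add, map_add]; exact hp.add hq
    | monomial n p =>
      rw [← C_mul_X_pow_eq_monomial, map_mul, map_pow, ← e_aeval e p, AlgEquiv.symm_apply_apply, C_mul,
        C_pow, map_mul, map_pow]
      exact (hyp p).mul (hx.pow n)
  have hint : (str (k := k) 𝔞').IsIntegral := by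
    intro z
    obtain ⟨g, rfl⟩ := Ideal.Quotient.mk_surjective z
    change IsIntegral k[X] (mk g)
    induction g using Polynomial.induction_on' with
    | add p q hp hq => rw [map_add]; exact hp.add hq
    | monomial n a =>
      rw [← C_mul_X_pow_eq_monomial, map_mul, map_pow]
      exact (hA a).mul (hX.pow n)
  have hft : (str (k := k) 𝔞').FiniteType := by
    have hftA : Algebra.FiniteType k A := by
      have h1 : Algebra.FiniteType k k[X][X] :=
        Algebra.FiniteType.trans (S := k[X]) inferInstance inferInstance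
      exact h1.equiv e.symm
    have hftAX : Algebra.FiniteType k A[X] := Algebra.FiniteType.trans (S := A) hftA inferInstance
    have h2 : (algebraMap k A[X]).FiniteType := RingHom.finiteType_algebraMap.2 hftAX
    have h3 : ((str (k := k) 𝔞').comp C).FiniteType := by
      have h4 : (str (k := k) 𝔞').comp C = (Ideal.Quotient.mk 𝔞').comp (algebraMap k A[X]) := by
        refine RingHom.ext fun a => ?_
        change Ideal.Quotient.mk 𝔞' ((C a).map (algebraMap k A)) = Ideal.Quotient.mk 𝔞' (C (algebraMap k A a))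
        rw [Polynomial.map_C]
      rw [h4]
      exact RingHom.FiniteType.comp (RingHom.FiniteType.of_surjective _ Ideal.Quotient.mk_surjective) h2
    exact RingHom.FiniteType.of_comp_finiteType h3
  exact hint.to_finite hft

/-- evaluation at the point `(x₀, c)` -/
noncomputable def ev (x₀ c : k) : A →+* k :=
  ((evalRingHom c).comp (evalRingHom (C x₀))).comp (e : A →+* k[X][X])

theorem ev_surjective (x₀ c : k) : Function.Surjective (ev e x₀ c) := by
  intro a
  refine ⟨e.symm (C (C a)), ?_⟩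
  change eval c (eval (C x₀) (e (e.symm (C (C a))))) = a
  rw [AlgEquiv.apply_symm_apply, eval_C, eval_C]

theorem ker_ev (x₀ c : k) : RingHom.ker (ev e x₀ c) =
    Ideal.span {cx e - algebraMap k A x₀, cy e - algebraMap k A c} := by
  have halg : ∀ a : k, e (algebraMap k A a) = C (C a) := fun a => by
    rw [AlgEquiv.commutes]
    rfl
  have hx : e (cx e - algebraMap k A x₀) = X - C (C x₀) := by
    rw [map_sub, halg, cx, AlgEquiv.apply_symm_apply]
  have hy : e (cy e - algebraMap k A c) = C (X - C c) := by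
    rw [map_sub, halg, cy, AlgEquiv.apply_symm_apply, C_sub]
  apply le_antisymm
  · intro a ha
    have h1 : eval c (eval (C x₀) (e a)) = 0 := ha
    obtain ⟨δ, hδ⟩ := exists_eq_of_eval_eq_zero (y := c) (g := eval (C x₀) (e a)) h1
    obtain ⟨η, hη⟩ := exists_eq_of_eval_eq_zero (y := C x₀) (g := e a - C (eval (C x₀) (e a))) (by
      rw [eval_sub, eval_C, sub_self])
    have h2 : a = (cx e - algebraMap k A x₀) * e.symm η + (cy e - algebraMap k A c) * e.symm (C δ) := by
      apply e.injective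
      rw [map_add, map_mul, map_mul, hx, hy, AlgEquiv.apply_symm_apply, AlgEquiv.apply_symm_apply,
        ← C_mul, ← hδ, ← hη]
      ring
    rw [h2]
    exact Ideal.add_mem _ (Ideal.mul_mem_right _ _ (Ideal.subset_span (by simp)))
      (Ideal.mul_mem_right _ _ (Ideal.subset_span (by simp)))
  · rw [Ideal.span_le]
    intro a ha
    rcases ha with rfl | ha
    · change eval c (eval (C x₀) (e _)) = 0
      rw [hx, eval_sub, eval_X, eval_C, sub_self, eval_zero]
    · rw [Set.mem_singleton_iff.1 ha]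
      change eval c (eval (C x₀) (e _)) = 0
      rw [hy, eval_C, eval_sub, eval_X, eval_C, sub_self]

/-- **The pulled apart family.** -/
theorem main [IsDomain A] [IsAlgClosed k] (𝔞 : Ideal A) (hrad : 𝔞.radical = Ideal.span {cx e, cy e})
    (hy : cy e ∉ 𝔞) :
    ∃ 𝔞' : Ideal A[X], (str (k := k) 𝔞').Flat ∧ (str (k := k) 𝔞').Finite ∧
      𝔞'.map (evalRingHom (0 : A)) = 𝔞 ∧
      ∀ c : k, 𝔞'.map (evalRingHom (algebraMap k A c)) ≤ Ideal.span {cx e, cy e} ∧
        ∃ x₀ : k, 𝔞'.map (evalRingHom (algebraMap k A c)) ≤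
          Ideal.span {cx e - algebraMap k A x₀, cy e - algebraMap k A c} := by
  obtain ⟨f, hf, hmon, hdeg, hdec⟩ := exists_monic e 𝔞 hrad
  obtain ⟨N, hN⟩ := exists_pow_cy e 𝔞 hrad
  -- the colon ideal
  let 𝔟 : Ideal A := Submodule.comap (LinearMap.mulLeft A (cy e)) 𝔞
  have hmem𝔟 : ∀ b, b ∈ 𝔟 ↔ cy e * b ∈ 𝔞 := fun b => Iff.rfl
  have h𝔞𝔟 : 𝔞 ≤ 𝔟 := fun a ha => Ideal.mul_mem_left _ _ ha
  have h𝔟 : 𝔟 ≤ Ideal.span {cx e, cy e} := by
    have hmax : (Ideal.span {cx e, cy e}).IsMaximal := by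
      have h0 := ker_ev e 0 0
      rw [map_zero, sub_zero, sub_zero] at h0
      rw [← h0]
      exact RingHom.ker_isMaximal_of_surjective _ (ev_surjective e 0 0)
    have h1 : 𝔟.radical ≠ ⊤ := by
      rw [Ne, Ideal.radical_eq_top, Ideal.eq_top_iff_one]
      intro h
      apply hy
      have := (hmem𝔟 1).1 h
      rwa [mul_one] at this
    have h2 : Ideal.span {cx e, cy e} ≤ 𝔟.radical := by
      rw [← hrad]
      exact Ideal.radical_mono h𝔞𝔟
    rw [hmax.eq_of_le h1 h2]
    exact Ideal.le_radical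
  refine ⟨fam (cy e) f 𝔟, flat_fam e hmon (h𝔞𝔟 hf), finite_fam e hmon N (h𝔞𝔟 hN), ?_, fun c => ⟨?_, ?_⟩⟩
  · rw [map_fam]
    apply le_antisymm
    · rw [sup_le_iff, Ideal.span_singleton_le_iff_mem]
      refine ⟨hf, ?_⟩
      intro z hz
      obtain ⟨b, hb, rfl⟩ := Ideal.mem_span_singleton_mul.1 hz
      rw [zero_sub, neg_mul]
      exact (Ideal.neg_mem_iff _).2 ((hmem𝔟 b).1 hb)
    · intro g hg
      obtain ⟨h, g', rfl⟩ := hdec g hg
      refine Submodule.add_mem_sup (Ideal.mul_mem_left _ _ (Ideal.mem_span_singleton_self _)) ?_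
      rw [Ideal.mem_span_singleton_mul]
      refine ⟨- g', ?_, by ring⟩
      refine (Ideal.neg_mem_iff _).2 ((hmem𝔟 g').2 ?_)
      have := 𝔞.sub_mem hg (Ideal.mul_mem_left 𝔞 h hf)
      rwa [add_sub_cancel_left] at this
  · rw [map_fam, sup_le_iff, Ideal.span_singleton_le_iff_mem]
    exact ⟨h𝔟 (h𝔞𝔟 hf), Ideal.mul_le_right.trans h𝔟⟩
  · obtain ⟨x₀, hx₀⟩ := IsAlgClosed.exists_root ((e f).map (evalRingHom c)) (by
      rw [hmon.degree_map]
      exact (natDegree_pos_iff_degree_pos.1 hdeg).ne')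
    refine ⟨x₀, ?_⟩
    rw [map_fam, sup_le_iff, Ideal.span_singleton_le_iff_mem]
    constructor
    · rw [← ker_ev]
      change eval c (eval (C x₀) (e f)) = 0
      have h1 : eval₂ (evalRingHom c) ((evalRingHom c) (C x₀)) (e f) =
          (evalRingHom c) (eval (C x₀) (e f)) := eval₂_at_apply _ _
      rw [coe_evalRingHom, eval_C] at h1
      rw [← h1, ← eval_map]
      exact hx₀
    · refine Ideal.mul_le_left.trans ?_
      rw [Ideal.span_singleton_le_iff_mem]
      have h1 : cy e - algebraMap k A c ∈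
          Ideal.span {cx e - algebraMap k A x₀, cy e - algebraMap k A c} :=
        Ideal.subset_span (Set.mem_insert_of_mem _ (Set.mem_singleton _))
      have h2 := (Ideal.neg_mem_iff _).2 h1
      rwa [neg_sub] at h2

end family

end K692.PullApart
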