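import Mathlib.RingTheory.Filtration
import Mathlib.RingTheory.Nakayama
import Mathlib.RingTheory.LocalRing.Quotient
import Mathlib.RingTheory.LocalRing.ResidueField.Basic
import Mathlib.RingTheory.HopkinsLevitzki
import Mathlib.RingTheory.Ideal.Quotient.Noetherian
import Mathlib.RingTheory.Ideal.Quotient.Operations

/-!
# Lifting along small extensions of quotients of a local ring

* `eq_on_sq`: two ring maps agreeing modulo an ideal killed by (the images of) `𝔪` agree on `𝔪²`.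
* `exists_pow_inf_le`: Artin-Rees in the form `𝔪ⁿ ∩ I ≤ 𝔪 I`.
-/

set_option autoImplicit false

universe u v w

open IsLocalRing

namespace K692.SmallLift

theorem eq_on_sq {P B : Type*} [CommRing P] [CommRing B] (φ₁ φ₂ : P →+* B) (J' : Ideal B)
    (h : ∀ a, φ₁ a - φ₂ a ∈ J') (𝔪 : Ideal P) (h₁ : ∀ a ∈ 𝔪, ∀ j ∈ J', φ₁ a * j = 0)
    (h₂ : ∀ a ∈ 𝔪, ∀ j ∈ J', φ₂ a * j = 0) {x : P} (hx : x ∈ 𝔪 ^ 2) : φ₁ x = φ₂ x := by
  rw [pow_two] at hx
  induction hx using Submodule.mul_induction_on' with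
  | mem_mul_mem a ha b hb =>
    rw [← sub_eq_zero, map_mul, map_mul]
    have e : φ₁ a * φ₁ b - φ₂ a * φ₂ b = φ₁ a * (φ₁ b - φ₂ b) + φ₂ b * (φ₁ a - φ₂ a) := by ring
    rw [e, h₁ a ha _ (h b), h₂ b hb _ (h a), add_zero]
  | add x _ y _ hx hy => rw [map_add, map_add, hx, hy]

theorem exists_pow_inf_le {P : Type*} [CommRing P] [IsNoetherianRing P] (𝔪 I : Ideal P) :
    ∃ n : ℕ, 1 ≤ n ∧ 𝔪 ^ n ⊓ I ≤ 𝔪 * I := by
  obtain ⟨k, hk⟩ := Ideal.exists_pow_inf_eq_pow_smul 𝔪 (I : Submodule P P)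
  refine ⟨k + 1, by omega, ?_⟩
  have h := hk (k + 1) (by omega)
  rw [show k + 1 - k = 1 by omega, pow_one] at h
  have h2 : (𝔪 ^ (k + 1) • ⊤ : Submodule P P) = 𝔪 ^ (k + 1) := by simp
  rw [h2] at h
  rw [h]
  exact Submodule.smul_mono le_rfl inf_le_right

section

variable (k : Type u) [Field k] {P : Type v} [CommRing P] [IsLocalRing P] [Algebra k P]

/-- If the residue field is `k` every element is a scalar plus an element of the maximal ideal. -/
theorem exists_sub_mem (hres : Function.Surjective (algebraMap k (ResidueField P))) (x : P) :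
    ∃ c : k, x - algebraMap k P c ∈ maximalIdeal P := by
  obtain ⟨c, hc⟩ := hres (residue P x)
  refine ⟨c, ?_⟩
  rw [← residue_eq_zero_iff, map_sub, ← hc]
  have : residue P (algebraMap k P c) = algebraMap k (ResidueField P) c := rfl
  rw [this, sub_self]

end

/-- An element of a quotient of a local ring is a non-unit when it comes from the maximal ideal. -/
theorem mk_mem_nonunits {P : Type v} [CommRing P] [IsLocalRing P] (Q : Ideal P) (hQ : Q ≠ ⊤)
    {x : P} (hx : x ∈ maximalIdeal P) : Ideal.Quotient.mk Q x ∈ nonunits (P ⧸ Q) := by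
  intro hu
  have : Nontrivial (P ⧸ Q) := Ideal.Quotient.nontrivial_iff.2 hQ
  obtain ⟨y, hy⟩ := hu.exists_right_inv
  obtain ⟨y, rfl⟩ := Ideal.Quotient.mk_surjective y
  rw [← map_mul, ← map_one (Ideal.Quotient.mk Q), Ideal.Quotient.mk_eq_mk_iff_sub_mem] at hy
  have h1 : (1 : P) ∈ maximalIdeal P := by
    have h2 := (maximalIdeal P).sub_mem ((maximalIdeal P).mul_mem_right y hx) (le_maximalIdeal hQ hy)
    simpa using h2
  exact (Ideal.ne_top_iff_one _).1 (Ideal.IsMaximal.ne_top inferInstance) h1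

theorem mem_maximalIdeal_of_mk {P : Type v} [CommRing P] [IsLocalRing P] (Q : Ideal P)
    {x : P} (hx : Ideal.Quotient.mk Q x ∈ nonunits (P ⧸ Q)) : x ∈ maximalIdeal P := by
  rw [mem_maximalIdeal, mem_nonunits_iff]
  exact fun h => hx (h.map _)

theorem isArtinianRing_quotient {P : Type v} [CommRing P] [IsLocalRing P] [IsNoetherianRing P] (Q : Ideal P)
    (n : ℕ) (h : maximalIdeal P ^ n ≤ Q) : IsArtinianRing (P ⧸ Q) := by
  rcases eq_or_ne Q ⊤ with rfl | hQ
  · have : Subsingleton (P ⧸ (⊤ : Ideal P)) := Ideal.Quotient.subsingleton_iff.2 rfl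
    infer_instance
  have hnt : Nontrivial (P ⧸ Q) := Ideal.Quotient.nontrivial_iff.2 hQ
  have hloc : IsLocalRing (P ⧸ Q) := IsLocalRing.of_surjective' (Ideal.Quotient.mk Q) Ideal.Quotient.mk_surjective
  rw [isArtinianRing_iff_isNilpotent_maximalIdeal]
  refine ⟨n, ?_⟩
  have h1 : maximalIdeal (P ⧸ Q) ≤ (maximalIdeal P).map (Ideal.Quotient.mk Q) := by
    intro x hx
    obtain ⟨x, rfl⟩ := Ideal.Quotient.mk_surjective x
    exact Ideal.mem_map_of_mem _ (mem_maximalIdeal_of_mk Q hx)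
  refine le_bot_iff.1 ((Ideal.pow_right_mono h1 n).trans ?_)
  rw [← Ideal.map_pow, ← Ideal.map_quotient_self Q]
  exact Ideal.map_mono h

end K692.SmallLift
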