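import Groth.Agent.Deform.K681.FlatNil
import Groth.Agent.Models.SpecFib
import Mathlib.RingTheory.Smooth.Basic
import Mathlib.AlgebraicGeometry.Pullbacks
import Mathlib.RingTheory.TensorProduct.Basic

/-!
# Flat deformations of formally smooth algebras over nilpotent thickenings are trivial
-/

set_option autoImplicit false

universe u v

open CategoryTheory CategoryTheory.Limits AlgebraicGeometry TensorProduct

namespace K692.TrivDef

section algebra

variable {k A B B' : Type u} [CommRing k] [CommRing A] [CommRing B] [CommRing B'] [Algebra k A]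
  [Algebra k B] [Algebra k B'] [Algebra A B'] [IsScalarTower k A B']

theorem mem_ker_smul_top (e : A →ₐ[k] k) (m : A ⊗[k] B)
    (hm : Algebra.TensorProduct.lift (((Algebra.ofId k B).comp e)) (AlgHom.id k B)
      (fun _ _ => Commute.all _ _) m = 0) :
    m ∈ RingHom.ker e • (⊤ : Submodule A (A ⊗[k] B)) := by
  have h1 : ∀ m : A ⊗[k] B, m - (1 : A) ⊗ₜ[k] (Algebra.TensorProduct.lift (((Algebra.ofId k B).comp e))
      (AlgHom.id k B) (fun _ _ => Commute.all _ _) m) ∈
      RingHom.ker e • (⊤ : Submodule A (A ⊗[k] B)) := by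
    intro m
    induction m using TensorProduct.induction_on with
    | zero => rw [map_zero, tmul_zero, sub_zero]; exact zero_mem _
    | tmul a b =>
      rw [Algebra.TensorProduct.lift_tmul]
      have h2 : (1 : A) ⊗ₜ[k] (((Algebra.ofId k B).comp e) a * (AlgHom.id k B) b) =
          (algebraMap k A (e a)) ⊗ₜ[k] b := by
        rw [AlgHom.comp_apply, Algebra.ofId_apply, AlgHom.id_apply, ← Algebra.smul_def, tmul_smul,
          smul_tmul', ← Algebra.algebraMap_eq_smul_one]
      rw [h2, ← sub_tmul]
      have h3 : (a - algebraMap k A (e a)) ⊗ₜ[k] b =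
          (a - algebraMap k A (e a)) • ((1 : A) ⊗ₜ[k] b) := by
        rw [smul_tmul', smul_eq_mul, mul_one]
      rw [h3]
      refine Submodule.smul_mem_smul ?_ trivial
      rw [RingHom.mem_ker]
      change e (a - algebraMap k A (e a)) = 0
      rw [map_sub, AlgHom.commutes]
      exact sub_self _
    | add x y hx hy =>
      rw [map_add, tmul_add, add_sub_add_comm]
      exact add_mem hx hy
  have h2 := h1 m
  rw [hm, tmul_zero, sub_zero] at h2
  exact h2

/-- **Triviality.** -/
theorem exists_algHom (e : A →ₐ[k] k) (he : IsNilpotent (RingHom.ker e))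
    [Algebra.FormallySmooth k B] [Module.Flat A B'] (π : B' →ₐ[k] B) (hπ : Function.Surjective π)
    (hker : RingHom.ker π = (RingHom.ker e).map (algebraMap A B'))
    (hcomp : ∀ a : A, π (algebraMap A B' a) = algebraMap k B (e a)) :
    ∃ s : B →ₐ[k] B', π.comp s = AlgHom.id k B ∧
      Function.Bijective (Algebra.TensorProduct.lift (Algebra.ofId A B') s
        (fun _ _ => Commute.all _ _) : A ⊗[k] B →ₐ[A] B') := by
  have hnil : IsNilpotent (RingHom.ker π) := by
    obtain ⟨n, hn⟩ := he
    refine ⟨n, ?_⟩
    rw [hker, ← Ideal.map_pow, hn]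
    exact Ideal.map_bot
  obtain ⟨s, hs⟩ := Algebra.FormallySmooth.exists_lift (R := k) (A := B)
    (RingHom.ker π) hnil
    ((Ideal.quotientKerAlgEquivOfSurjective hπ).symm.toAlgHom)
  have hs' : ∀ b, π (s b) = b := by
    intro b
    have h1 := DFunLike.congr_fun hs b
    have h2 : (Ideal.quotientKerAlgEquivOfSurjective hπ) (Ideal.Quotient.mk _ (s b)) = b := by
      have h3 : (Ideal.Quotient.mk (RingHom.ker π) (s b)) =
          (Ideal.quotientKerAlgEquivOfSurjective hπ).symm b := h1
      rw [h3, AlgEquiv.apply_symm_apply]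
    exact h2
  refine ⟨s, AlgHom.ext hs', ?_⟩
  set ψ : A ⊗[k] B →ₐ[A] B' := Algebra.TensorProduct.lift (Algebra.ofId A B') s
        (fun _ _ => Commute.all _ _) with hψ
  have hψt : ∀ a b, ψ (a ⊗ₜ b) = algebraMap A B' a * s b := by
    intro a b
    rw [hψ, Algebra.TensorProduct.lift_tmul]
    rfl
  have hπψ : ∀ m, π (ψ m) = Algebra.TensorProduct.lift (((Algebra.ofId k B).comp e)) (AlgHom.id k B)
      (fun _ _ => Commute.all _ _) m := by
    intro m
    induction m using TensorProduct.induction_on with
    | zero => rw [map_zero, map_zero, map_zero]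
    | tmul a b =>
      rw [hψt, map_mul, hs', hcomp, Algebra.TensorProduct.lift_tmul]
      rfl
    | add x y hx hy => rw [map_add, map_add, map_add, hx, hy]
  have htop : ∀ b : B', b ∈ (RingHom.ker e) • (⊤ : Submodule A B') ↔ π b = 0 := by
    intro b
    rw [Ideal.smul_top_eq_map, ← hker]
    rfl
  refine K681.FlatNil.bijective_of_nilpotent (RingHom.ker e) he ψ.toLinearMap ?_ ?_
  · intro n
    refine ⟨1 ⊗ₜ π n, ?_⟩
    rw [htop, map_sub]
    change π n - π (ψ (1 ⊗ₜ π n)) = 0
    rw [hψt, map_one, one_mul, hs', sub_self]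
  · intro m hm
    rw [htop] at hm
    exact mem_ker_smul_top e m (by rw [← hπψ]; exact hm)

end algebra

end K692.TrivDef
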